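import Cfsg.Agent.Lib.DefectOne.Orbit
import Cfsg.Agent.Lib.CharGalois

/-!
# The action of Galois automorphisms on a block of defect one
-/

set_option autoImplicit false
set_option linter.unusedSectionVars false
set_option linter.style.haveILetI false

namespace Cfsg.Agent.Lib.DefectOne

open Cfsg Cfsg.Agent.Lib Cfsg.Agent.Lib.Char Cfsg.Agent.Lib.Char.UC
open scoped ComplexConjugate

universe u

variable {p : ℕ} [Fact p.Prime] {G : Type u} [Group G] [Fintype G] {P : Sylow p G}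
  {M : Ideal AlgInt} [M.IsPrime]

variable (p G) in
/-- Exponents of the automorphisms fixing the roots of unity of order prime to `p`. -/
def Adm (k : ℕ) : Prop :=
  Nat.Coprime k (Nat.card G) ∧ k ≡ 1 [MOD Nat.card G / p]

theorem regular_order_dvd (hdiv : p ∣ Nat.card G) {g : G} (hg : ¬ p ∣ orderOf g) :
    orderOf g ∣ Nat.card G / p := by
  have h := orderOf_dvd_natCard g
  rw [← Nat.div_mul_cancel hdiv] at h
  exact ((Nat.Prime.coprime_iff_not_dvd Fact.out).2 hg).symm.dvd_of_dvd_mul_right h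

theorem p_dvd_card (hP : Nat.card (P : Subgroup G) = p) : p ∣ Nat.card G := by
  have h := (P : Subgroup G).card_subgroup_dvd_card
  rwa [hP] at h

theorem pow_regular (hdiv : p ∣ Nat.card G) {k : ℕ} (hk : Adm p G k) {g : G}
    (hg : ¬ p ∣ orderOf g) : g ^ k = g := by
  conv_rhs => rw [← pow_one g]
  exact pow_eq_pow_iff_modEq.2 (hk.2.of_dvd (regular_order_dvd hdiv hg))

theorem Adm.mul {k l : ℕ} (hk : Adm p G k) (hl : Adm p G l) : Adm p G (k * l) :=
  ⟨hk.1.mul_left hl.1, by simpa using hk.2.mul hl.2⟩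

/-- The Galois conjugate of an irreducible character. -/
noncomputable def powIrr (k : ℕ) (hk : Adm p G k) (χ : IrrCharacter G) : IrrCharacter G :=
  ⟨fun g => (χ : G → ℂ) (g ^ k), CharGalois.isIrrCharacter_pow hk.1 χ.2⟩

theorem powIrr_injective {k : ℕ} (hk : Adm p G k) :
    Function.Injective (powIrr (p := p) (G := G) k hk) := by
  intro a b h
  refine Subtype.ext (funext fun g => ?_)
  obtain ⟨g', rfl⟩ := (powCoprime (G := G) hk.1.symm).surjective g
  exact congrFun (congrArg Subtype.val h) g'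

theorem coprime_card_C {k : ℕ} (hk : Adm p G k) : Nat.Coprime (Nat.card (C P)) k :=
  (Nat.Coprime.coprime_dvd_right (C P).card_subgroup_dvd_card hk.1).symm

/-- The power of a linear character. -/
def lamPow (k : ℕ) (ξ : Lam P) : Lam P :=
  ⟨ξ.1 ^ k, fun c hc => by
    rw [MonoidHom.pow_apply, ξ.2 c hc, one_pow]⟩

theorem theta_pow (hP : Nat.card (P : Subgroup G) = p) {k : ℕ} (hk : Adm p G k) (θ : Th P)
    (c : C P) : (θ.1 : C P → ℂ) (c ^ k) = (θ.1 : C P → ℂ) c := by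
  obtain ⟨x, y, rfl, hc, hx, hy⟩ := exists_parts c
  rw [hc.mul_pow, theta_mul θ.2 (x := x ^ k) (by rw [SubgroupClass.coe_pow]; exact pow_mem hx k),
    theta_mul θ.2 hx]
  refine congrArg (θ.1 : C P → ℂ) (Subtype.ext ?_)
  rw [SubgroupClass.coe_pow]
  exact pow_regular (p_dvd_card hP) hk (by rwa [Subgroup.orderOf_coe])

theorem mult_powIrr (hP : Nat.card (P : Subgroup G) = p) {k : ℕ} (hk : Adm p G k)
    (χ : IrrCharacter G) (ξ : Lam P) (θ : Th P) :
    mult (powIrr k hk χ) (phi (lamPow k ξ) θ) = mult χ (phi ξ θ) := by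
  haveI := Fintype.ofFinite (C P)
  refine Nat.cast_injective (R := ℂ) ?_
  rw [← mult_spec, ← mult_spec, classInner, classInner]
  congr 1
  refine Fintype.sum_equiv (powCoprime (coprime_card_C hk)) _ _ fun c => ?_
  show (χ : G → ℂ) ((c : G) ^ k) * conj ((((ξ.1 ^ k) c : ℂˣ) : ℂ) * (θ.1 : C P → ℂ) c) =
    (χ : G → ℂ) ((c ^ k : C P) : G) * conj (((ξ.1 (c ^ k) : ℂˣ) : ℂ) * (θ.1 : C P → ℂ) (c ^ k))
  rw [theta_pow hP hk, map_pow, MonoidHom.pow_apply, SubgroupClass.coe_pow]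

theorem S_powIrr (hP : Nat.card (P : Subgroup G) = p) {k : ℕ} (hk : Adm p G k) (θ : Th P)
    (χ : IrrCharacter G) (x : (P : Subgroup G)) :
    S hP θ (powIrr k hk χ) x = S hP θ χ (x ^ k) := by
  have hinj : Function.Injective (lamPow (P := P) k) := by
    intro a b h
    refine Subtype.ext (MonoidHom.ext fun c => ?_)
    obtain ⟨d, rfl⟩ := (powCoprime (coprime_card_C (P := P) hk)).surjective c
    show a.1 (d ^ k) = b.1 (d ^ k)
    rw [map_pow, map_pow]
    exact DFunLike.congr_fun (congrArg Subtype.val h) d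
  unfold S
  refine (Fintype.sum_bijective _ (Finite.injective_iff_bijective.1 hinj) _ _ fun ξ => ?_).symm
  rw [mult_powIrr hP hk]
  congr 1
  show ((ξ.1 (inC hP (x ^ k)) : ℂˣ) : ℂ) = (((ξ.1 ^ k) (inC hP x) : ℂˣ) : ℂ)
  rw [MonoidHom.pow_apply, ← map_pow]
  exact congrArg (fun c : C P => ((ξ.1 c : ℂˣ) : ℂ)) (Subtype.ext (by simp [inC]))

theorem pow_ne_one {k : ℕ} (hk : Adm p G k) {x : (P : Subgroup G)} (hx : x ≠ 1) : x ^ k ≠ 1 := by
  intro h
  refine hx ((powCoprime (G := (P : Subgroup G)) (n := k)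
    ((Nat.Coprime.coprime_dvd_right (P : Subgroup G).card_subgroup_dvd_card hk.1).symm)).injective ?_)
  simpa using h

/-- Galois conjugates stay in the block. -/
theorem powIrr_mem (hM : IsPModular p M) (hP : Nat.card (P : Subgroup G) = p) (θ : Th P)
    {B : Set (IrrCharacter G)} (hB : IsPBlock M B)
    (hind : IsInducedBlock M (C P) (blockOf M (θ.1 : C P → ℂ)) B)
    (hd : 0 < blockDefect p B) {χ : IrrCharacter G} (hχ : χ ∈ B) {k : ℕ} (hk : Adm p G k) :
    powIrr k hk χ ∈ B := by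
  obtain ⟨ψ, hψ, hψd⟩ := exists_degree hM hP hB hd
  obtain ⟨x, hx, hx1⟩ := exists_mem_ne_one (P := P) hP
  have hx' : (⟨x, hx⟩ : (P : Subgroup G)) ≠ 1 := fun h => hx1 (congrArg Subtype.val h)
  by_contra hn
  have h := S_eq_zero hM hP θ hind hn hx'
  rw [S_powIrr hP hk] at h
  exact S_ne_zero hM hP θ hind hχ (height_zero hM hP hB hψ hψd hχ).2 (pow_ne_one hk hx') h

theorem exists_singular_conj (hP : Nat.card (P : Subgroup G) = p) {g : G} (hg : p ∣ orderOf g) :
    ∃ (h : G) (x : (P : Subgroup G)) (y : C P), x ≠ 1 ∧ ¬ p ∣ orderOf y ∧ Commute (x : G) (y : G) ∧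
      h * g * h⁻¹ = (x : G) * (y : G) := by
  have hog : orderOf (g ^ (orderOf g / p)) = p := by
    rw [orderOf_pow_of_dvd (Nat.div_pos (Nat.le_of_dvd (orderOf_pos g) hg)
      (Fact.out : p.Prime).pos).ne' (Nat.div_dvd_of_dvd hg)]
    exact Nat.div_div_self hg (orderOf_pos g).ne'
  have hz : IsPGroup p (Subgroup.zpowers (g ^ (orderOf g / p))) :=
    IsPGroup.of_card (n := 1) (by rw [Nat.card_zpowers, hog, pow_one])
  obtain ⟨Q, hQ⟩ := hz.exists_le_sylow
  obtain ⟨h, hh⟩ := MulAction.exists_smul_eq G Q P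
  have hmem : h * g ^ (orderOf g / p) * h⁻¹ ∈ (P : Subgroup G) := by
    rw [← hh]
    exact Subgroup.smul_mem_pointwise_smul _ (MulAut.conj h) _ (hQ (Subgroup.mem_zpowers _))
  have hne : h * g ^ (orderOf g / p) * h⁻¹ ≠ 1 := by
    intro e
    rw [conj_eq_one_iff] at e
    rw [e, orderOf_one] at hog
    exact (Fact.out : p.Prime).one_lt.ne hog
  have hc : h * g * h⁻¹ ∈ C P := by
    show h * g * h⁻¹ ∈ Subgroup.centralizer ((P : Subgroup G) : Set G)
    rw [← star_of_card hP _ hmem hne, Subgroup.mem_centralizer_singleton_iff, ← conj_pow]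
    exact (Commute.self_pow _ _).eq
  obtain ⟨x, y, hxy, hcm, hx, hy⟩ := exists_parts ⟨h * g * h⁻¹, hc⟩
  refine ⟨h, ⟨x, hx⟩, y, fun e => hy ?_, hy, congrArg Subtype.val hcm, (congrArg Subtype.val hxy).symm⟩
  have e' : x = 1 := Subtype.ext (congrArg (fun z : (P : Subgroup G) => (z : G)) e)
  rw [e', one_mul] at hxy
  rw [hxy, Subgroup.orderOf_mk, show orderOf (h * g * h⁻¹) = orderOf g by
    simpa using (MulAut.conj h).orderOf_eq g]
  exact hg

/-- A member with constant components is fixed. -/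
theorem powIrr_eq_self (hM : IsPModular p M) (hP : Nat.card (P : Subgroup G) = p)
    {B : Set (IrrCharacter G)} (hd : blockDefect p B = 1) (θ : Th P)
    (hind : IsInducedBlock M (C P) (blockOf M (θ.1 : C P → ℂ)) B)
    {χ : IrrCharacter G} (hχ : χ ∈ B) {z : ℂ}
    (hz : ∀ x : (P : Subgroup G), x ≠ 1 → S hP θ χ x = z) {k : ℕ} (hk : Adm p G k) :
    powIrr k hk χ = χ := by
  classical
  have hdiv := p_dvd_card hP
  refine Subtype.ext (funext fun g => ?_)
  show (χ : G → ℂ) (g ^ k) = _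
  by_cases hg : p ∣ orderOf g
  · obtain ⟨h, x, y, hx, hy, hxy, he⟩ := exists_singular_conj hP hg
    have hcf := isClassFunction_of_isIrr χ.2
    rw [← hcf (g ^ k) h, ← hcf g h, ← conj_pow, he, hxy.mul_pow,
      pow_regular hdiv hk (g := (y : G)) (by rwa [Subgroup.orderOf_coe]),
      ← SubgroupClass.coe_pow, apply_eq_sum_S hP χ (x ^ k) hy, apply_eq_sum_S hP χ x hy]
    refine Finset.sum_congr rfl fun η _ => ?_
    congr 1
    by_cases hη : η ∈ orb θ
    · obtain ⟨n, rfl⟩ := mem_orb.1 hη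
      rw [S_cjTh hP n.2, S_cjTh hP n.2, hz, hz]
      · intro e
        refine hx (Subtype.ext ?_)
        have e' := congrArg Subtype.val e
        simpa [mul_eq_one_iff_eq_inv, inv_mul_eq_one] using e'
      · intro e
        refine pow_ne_one hk hx (Subtype.ext ?_)
        have e' := congrArg Subtype.val e
        simpa [mul_eq_one_iff_eq_inv, inv_mul_eq_one] using e'
    · obtain ⟨B', hB'⟩ := exists_induced_C hM hP η
      have hne : χ ∉ B' := fun hχB' => hη (mem_orb.2 (exists_conj_of_induced hM hP hind.2.1 hd hind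
        (by rwa [Block.eq_of_mem_of_mem hind.2.1 hB'.2.1 hχ hχB'])))
      rw [S_eq_zero hM hP η hB' hne hx, S_eq_zero hM hP η hB' hne (pow_ne_one hk hx)]
  · rw [pow_regular hdiv hk hg]

/-- The admissible exponents are transitive on the nontrivial linear characters. -/
theorem exists_adm_lamPow (hP : Nat.card (P : Subgroup G) = p) (hsq : ¬ p ^ 2 ∣ Nat.card G)
    {ξ ξ' : Lam P} (hξ : ξ ≠ lamOne) (hξ' : ξ' ≠ lamOne) :
    ∃ k : ℕ, Adm p G k ∧ lamPow k ξ = ξ' := by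
  have hp : p.Prime := Fact.out
  have hdiv := p_dvd_card hP
  obtain ⟨x, hx, hx1⟩ := exists_mem_ne_one (P := P) hP
  let x' : (P : Subgroup G) := ⟨x, hx⟩
  have hgen : ∀ y : (P : Subgroup G), ∃ i : ℕ, x' ^ i = y := fun y =>
    Submonoid.mem_powers_iff _ _ |>.1 (mem_powers_of_prime_card (p := p) hP
      (fun h => hx1 (congrArg Subtype.val h)))
  have hdet : ∀ a b : Lam P, a.1 (inC hP x') = b.1 (inC hP x') → a = b := by
    intro a b h
    refine Subtype.ext (MonoidHom.ext fun c => ?_)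
    obtain ⟨u, v, rfl, -, hu, hv⟩ := exists_parts c
    obtain ⟨i, hi⟩ := hgen ⟨u, hu⟩
    have hu' : u = inC hP x' ^ i := Subtype.ext (by
      simpa [inC] using (congrArg Subtype.val hi).symm)
    rw [map_mul, map_mul, a.2 v hv, b.2 v hv, hu', map_pow, map_pow, h]
  have hroot : ∀ a : Lam P, a ≠ lamOne → orderOf (a.1 (inC hP x')) = p := by
    intro a ha
    refine orderOf_eq_prime ?_ fun h => ha (hdet a lamOne (h.trans rfl))
    rw [← map_pow, show inC hP x' ^ p = 1 from Subtype.ext (by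
      have h := congrArg Subtype.val (pow_card_eq_one' (G := (P : Subgroup G)) (x := x'))
      rw [hP] at h
      simpa [inC] using h), map_one]
  obtain ⟨j, hj⟩ : ∃ j : ℕ, ξ.1 (inC hP x') ^ j = ξ'.1 (inC hP x') := by
    haveI : NeZero p := ⟨hp.ne_zero⟩
    have hprim : IsPrimitiveRoot ((ξ.1 (inC hP x') : ℂˣ) : ℂ) p :=
      IsPrimitiveRoot.coe_units_iff.2 (by
        have h := IsPrimitiveRoot.orderOf (ξ.1 (inC hP x'))
        rwa [hroot ξ hξ] at h)
    obtain ⟨j, -, hj⟩ := hprim.eq_pow_of_pow_eq_one (ξ := ((ξ'.1 (inC hP x') : ℂˣ) : ℂ)) (by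
      have h := pow_orderOf_eq_one (ξ'.1 (inC hP x'))
      rw [hroot ξ' hξ'] at h
      rw [← Units.val_pow_eq_pow_val, h, Units.val_one])
    exact ⟨j, Units.ext (by rw [Units.val_pow_eq_pow_val, hj])⟩
  have hj0 : ¬ p ∣ j := fun ⟨t, ht⟩ => hξ' (hdet _ _ (by
    rw [← hj, ht, pow_mul, show ξ.1 (inC hP x') ^ p = 1 by
      have h := pow_orderOf_eq_one (ξ.1 (inC hP x'))
      rwa [hroot ξ hξ] at h, one_pow]
    rfl))
  have hcop : Nat.Coprime (Nat.card G / p) p := by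
    refine ((Nat.Prime.coprime_iff_not_dvd hp).2 fun ⟨t, ht⟩ => hsq ⟨t, ?_⟩).symm
    rw [← Nat.div_mul_cancel hdiv, ht]
    ring
  obtain ⟨k, hk1, hk2⟩ := Nat.chineseRemainder hcop 1 j
  refine ⟨k, ⟨?_, hk1⟩, hdet _ _ ?_⟩
  · rw [← Nat.div_mul_cancel hdiv]
    refine Nat.Coprime.mul_right ?_ ?_
    · rw [Nat.Coprime, hk1.gcd_eq, Nat.gcd_one_left]
    · rw [Nat.Coprime, hk2.gcd_eq]
      exact ((Nat.Prime.coprime_iff_not_dvd hp).2 hj0).symm
  · show (ξ.1 ^ k) (inC hP x') = _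
    rw [MonoidHom.pow_apply, ← hj]
    exact pow_eq_pow_iff_modEq.2 (by rwa [hroot ξ hξ])

/-- The exceptional characters form one orbit of the admissible exponents. -/
theorem exists_structure_galois (hM : IsPModular p M) (hP : Nat.card (P : Subgroup G) = p)
    (hsq : ¬ p ^ 2 ∣ Nat.card G) (θ : Th P) {B : Set (IrrCharacter G)} (hB : IsPBlock M B)
    (hind : IsInducedBlock M (C P) (blockOf M (θ.1 : C P → ℂ)) B)
    (hd : blockDefect p B = 1) :
    (C P).relIndex (Tgrp θ) ∣ p - 1 ∧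
    ∃ (Z Y : Finset (IrrCharacter G)) (sgn : IrrCharacter G → ℤ) (ε : ℤ),
      B = (Z : Set (IrrCharacter G)) ∪ (Y : Set (IrrCharacter G)) ∧ Disjoint Z Y ∧
      Z.card = (C P).relIndex (Tgrp θ) ∧ Y.card = (p - 1) / (C P).relIndex (Tgrp θ) ∧
      (ε = 1 ∨ ε = -1) ∧ (∀ χ ∈ Z, sgn χ = 1 ∨ sgn χ = -1) ∧
      (∀ χ ∈ Z, ∀ k, ∀ hk : Adm p G k, powIrr k hk χ = χ) ∧
      (∀ ψ ∈ Y, ∀ k, ∀ hk : Adm p G k, powIrr k hk ψ ∈ Y) ∧
      (∀ ψ ∈ Y, ∀ ψ' ∈ Y, ∃ k, ∃ hk : Adm p G k, powIrr k hk ψ = ψ') ∧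
      (∀ ψ ∈ Y, ∀ g : G, ¬ p ∣ orderOf g →
        (ε : ℂ) * (ψ : G → ℂ) g = ∑ χ ∈ Z, (sgn χ : ℂ) * (χ : G → ℂ) g) := by
  classical
  obtain ⟨hdvd, Z, Y, sgn, ε, hBeq, hdis, hZc, hYc, hε, hZ, -, -, hrel, hfull, -⟩ :=
    exists_structure_full hM hP θ hB hind (exists_degree hM hP hB (by omega))
      (relIndex_Tgrp_le_blockRank hM hP θ hB hind)
  have hfix : ∀ χ ∈ Z, ∀ k, ∀ hk : Adm p G k, powIrr k hk χ = χ := fun χ hχ k hk =>
    powIrr_eq_self hM hP hd θ hind (by rw [hBeq]; exact Or.inl hχ) (hZ χ hχ).2 hk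
  have hYmem : ∀ ψ ∈ Y, ∀ k, ∀ hk : Adm p G k, powIrr k hk ψ ∈ Y := by
    intro ψ hψ k hk
    have h : powIrr k hk ψ ∈ B :=
      powIrr_mem hM hP θ hB hind (by omega) (by rw [hBeq]; exact Or.inr hψ) hk
    rw [hBeq] at h
    rcases h with h | h
    · have := powIrr_injective hk ((hfix _ h k hk).trans rfl)
      exact absurd hψ (Finset.disjoint_left.1 hdis (this ▸ h))
    · exact h
  refine ⟨hdvd, Z, Y, sgn, ε, hBeq, hdis, hZc, hYc, hε, fun χ hχ => (hZ χ hχ).1, hfix, hYmem,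
    fun ψ hψ ψ' hψ' => ?_, hrel⟩
  have h1 : Adm p G 1 := ⟨Nat.coprime_one_left _, rfl⟩
  have hone : powIrr 1 h1 ψ = ψ := Subtype.ext (funext fun g => congrArg _ (pow_one g))
  by_cases h2 : 2 ≤ Y.card
  · set O := Y.filter fun χ => ∃ k, ∃ hk : Adm p G k, powIrr k hk ψ = χ with hO
    have hψO : ψ ∈ O := Finset.mem_filter.2 ⟨hψ, 1, h1, hone⟩
    have hclosed : ∀ χ ∈ O, ∀ k, ∀ hk : Adm p G k, powIrr k hk χ ∈ O := by
      intro χ hχ k hk
      obtain ⟨hχY, l, hl, rfl⟩ := Finset.mem_filter.1 hχ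
      refine Finset.mem_filter.2 ⟨hYmem _ hχY k hk, k * l, hk.mul hl, ?_⟩
      exact Subtype.ext (funext fun g => congrArg _ (pow_mul g k l))
    have hOY : O = Y := by
      refine hfull h2 O (Finset.filter_subset _ _) ⟨ψ, hψO⟩ fun ξ ξ' hξ hξ' => ?_
      obtain ⟨k, hk, rfl⟩ := exists_adm_lamPow hP hsq hξ hξ'
      have hsurj := Finset.surj_on_of_inj_on_of_card_le (s := O) (t := O)
        (fun χ _ => powIrr k hk χ) (fun χ hχ => hclosed χ hχ k hk)
        (fun a b _ _ h => powIrr_injective hk h) le_rfl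
      refine Finset.sum_bij (fun χ _ => powIrr k hk χ) (fun χ hχ => hclosed χ hχ k hk)
        (fun a _ b _ h => powIrr_injective hk h) (fun χ hχ => ?_) fun χ _ => ?_
      · obtain ⟨a, ha, e⟩ := hsurj χ hχ
        exact ⟨a, ha, e.symm⟩
      · exact (mult_powIrr hP hk χ ξ θ).symm
    obtain ⟨-, h⟩ := Finset.mem_filter.1 (hOY.symm ▸ hψ' : ψ' ∈ O)
    exact h
  · exact ⟨1, h1, hone.trans (Finset.card_le_one.1 (by omega) ψ hψ ψ' hψ')⟩

end Cfsg.Agent.Lib.DefectOne
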