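import Cfsg.Agent.Lib.DefectOne.SimpleFixed

/-!
# Every simple module of the normaliser is realised in a simple module
-/

set_option autoImplicit false
set_option linter.unusedSectionVars false

namespace Cfsg.Agent.Lib.DefectOne

universe u v w

variable {k : Type} [Field k] {G : Type u} [Group G] [Fintype G] {p : ℕ} [Fact p.Prime]
  [CharP k p] {P : Sylow p G} {V : Type v} [AddCommGroup V] [Module k V] {W : Type w}
  [AddCommGroup W] [Module k W]

/-- The induced module as a space of covariant functions. -/
def indSpace (σ : Representation k (Nor P) W) : Submodule k (G → W) where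
  carrier := {f | ∀ (g : G) (n : Nor P), f (g * n) = σ n⁻¹ (f g)}
  add_mem' := by intro a b ha hb g n; simp only [Pi.add_apply, ha g n, hb g n, map_add]
  zero_mem' := by intro g n; simp
  smul_mem' := by intro c a ha g n; simp only [Pi.smul_apply, ha g n, map_smul]

/-- The induced module. -/
def indRep (σ : Representation k (Nor P) W) : Representation k G (indSpace σ) where
  toFun y :=
    { toFun := fun f => ⟨fun g => (f : G → W) (y⁻¹ * g), fun g n => by simp only [← mul_assoc]; exact f.2 _ n⟩
      map_add' := fun _ _ => rfl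
      map_smul' := fun _ _ => rfl }
  map_one' := by ext f g; simp
  map_mul' := fun a b => by ext f g; simp [mul_assoc]

variable (k) in
theorem exists_simple_of_nontrivial [FiniteDimensional k W] [Nontrivial W]
    (hP : Nat.card (P : Subgroup G) = p) {σ : Representation k (Nor P) W} (hσ : TrivOn P σ) :
    ∃ (d : ℕ) (τ : Representation k G (Fin d → k)) (ι' : W →ₗ[k] (Fin d → k)),
      τ.IsIrreducible ∧ IsEmb P τ σ ι' := by
  classical
  let j : W → G → W := fun w g => if h : g ∈ Nor P then σ ⟨g, h⟩⁻¹ w else 0
  have hj : ∀ w, j w ∈ indSpace σ := by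
    intro w g n
    by_cases hg : g ∈ Nor P
    · simp only [j, dif_pos hg, dif_pos ((Nor P).mul_mem hg n.2)]
      rw [← Module.End.mul_apply, ← map_mul, ← mul_inv_rev]
      rfl
    · have : ¬ g * n ∈ Nor P := fun h => hg (by simpa using (Nor P).mul_mem h ((Nor P).inv_mem n.2))
      simp only [j, dif_neg hg, dif_neg this, map_zero]
  let ι : W →ₗ[k] indSpace σ :=
    { toFun := fun w => ⟨j w, hj w⟩
      map_add' := fun a b => by
        ext g; by_cases hg : g ∈ Nor P <;> simp [j, hg]
      map_smul' := fun c a => by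
        ext g; by_cases hg : g ∈ Nor P <;> simp [j, hg] }
  have hι : IsEmb P (indRep σ) σ ι := by
    refine ⟨fun n w => Subtype.ext (funext fun g => ?_), ?_⟩
    · show j w ((n : G)⁻¹ * g) = j (σ n w) g
      by_cases hg : g ∈ Nor P
      · simp only [j, dif_pos hg, dif_pos ((Nor P).mul_mem ((Nor P).inv_mem n.2) hg)]
        rw [← Module.End.mul_apply, ← map_mul]
        congr 2
        refine Subtype.ext ?_
        show ((n : G)⁻¹ * g)⁻¹ = g⁻¹ * (n : G)
        group
      · have : ¬ (n : G)⁻¹ * g ∈ Nor P := fun h => hg (by simpa using (Nor P).mul_mem n.2 h)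
        simp only [j, dif_neg hg, dif_neg this]
    · obtain ⟨w, hw⟩ := exists_ne (0 : W)
      refine ⟨w, fun ⟨f, hf⟩ => hw ?_⟩
      have h1 : ((tr P (indRep σ) f : indSpace σ) : G → W) 1 = j w 1 :=
        congrArg (fun t : indSpace σ => (t : G → W) 1) hf
      have hjw : j w 1 = w := by
        simp only [j, dif_pos (Nor P).one_mem]
        rw [show (⟨1, (Nor P).one_mem⟩ : Nor P) = 1 from rfl, inv_one, map_one,
          Module.End.one_apply]
      rw [hjw, tr_eq_sum, AddSubmonoidClass.coe_finsetSum, Finset.sum_apply] at h1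
      have hterm : ∀ x : (P : Subgroup G),
          ((indRep σ (x : G) f : indSpace σ) : G → W) 1 = (f : G → W) 1 := by
        intro x
        show (f : G → W) ((x : G)⁻¹ * 1) = _
        rw [mul_one, ← one_mul (x : G)⁻¹]
        have := f.2 1 ⟨(x : G)⁻¹, (Nor P).inv_mem (Subgroup.le_normalizer x.2)⟩
        rw [this, hσ _ (by simp), Module.End.one_apply]
      rw [Finset.sum_congr rfl fun x _ => hterm x, Finset.sum_const, Finset.card_univ,
        ← Nat.card_eq_fintype_card] at h1
      rw [← h1, hP, ← Nat.cast_smul_eq_nsmul k, CharP.cast_eq_zero, zero_smul]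
  haveI : FiniteDimensional k (indSpace σ) := FiniteDimensional.finiteDimensional_submodule _
  exact exists_simple k hσ _ (indRep σ) ι le_rfl hι

/-- Only the centraliser of the Sylow subgroup matters on the fixed points modulo traces. -/
theorem sum_compl_centralizer_mem (hP : Nat.card (P : Subgroup G) = p)
    (ρ : Representation k G V) (a : G → k)
    (ha : ∀ x g : G, a (x * g * x⁻¹) = a g) (v : V)
    (hv : ∀ x ∈ (P : Subgroup G), ρ x v = v)
    [DecidablePred (· ∈ Subgroup.centralizer ((P : Subgroup G) : Set G))] :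
    ∑ g : {g : G // g ∉ Subgroup.centralizer ((P : Subgroup G) : Set G)}, a g • ρ (g : G) v ∈
      LinearMap.range (tr P ρ) := by
  classical
  haveI hcy : IsCyclic (P : Subgroup G) := isCyclic_of_prime_card hP
  let C : Subgroup G := Subgroup.centralizer ((P : Subgroup G) : Set G)
  have hPC : ∀ x ∈ (P : Subgroup G), x ∈ C := fun x hx =>
    Subgroup.mem_centralizer_iff.2 fun y hy =>
      congrArg Subtype.val (hcy.commutative.is_comm.comm (⟨y, hy⟩ : (P : Subgroup G)) ⟨x, hx⟩)
  let Ω := {g : G // g ∉ C}
  letI : MulAction (P : Subgroup G) Ω :=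
    { smul := fun x g => ⟨(x : G) * g * (x : G)⁻¹, fun h => g.2 (by
        have := C.mul_mem (C.mul_mem (C.inv_mem (hPC _ x.2)) h) (hPC _ x.2)
        simpa [mul_assoc] using this)⟩
      one_smul := fun g => Subtype.ext (show (1 : G) * g * (1 : G)⁻¹ = g by simp)
      mul_smul := fun x y g => Subtype.ext
        (show ((x : G) * y) * g * ((x : G) * y)⁻¹ = (x : G) * ((y : G) * g * (y : G)⁻¹) * (x : G)⁻¹
          by group) }
  refine sum_free_mem P ρ (Ω := Ω) (fun x g h => ?_) (fun g => a g • ρ (g : G) v) (fun x g => ?_)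
  · by_contra hx
    have hx' : (x : G) ≠ 1 := fun e => hx (Subtype.ext e)
    refine g.2 (Subgroup.mem_centralizer_iff.2 fun y hy => ?_)
    have hc : Commute (x : G) (g : G) := by
      have := congrArg Subtype.val h
      exact mul_inv_eq_iff_eq_mul.1 this
    have hy' : y ∈ Subgroup.zpowers (x : G) := (zpowers_eq hP x.2 hx').symm ▸ hy
    obtain ⟨i, rfl⟩ := hy'
    exact (hc.zpow_left i).eq
  · show a ((x : G) * g * (x : G)⁻¹) • ρ ((x : G) * g * (x : G)⁻¹) v = _
    rw [ha, map_mul, map_mul, Module.End.mul_apply, Module.End.mul_apply,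
      hv _ ((P : Subgroup G).inv_mem x.2), map_smul]

end Cfsg.Agent.Lib.DefectOne
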