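import Cfsg.Agent.Lib.DefectOne.TraceIndep
import Cfsg.Agent.Lib.DefectOne.Induced
import Cfsg.Agent.Lib.DefectOne.Span
import Cfsg.Agent.Lib.Block.Principal
import Mathlib.FieldTheory.IsSepClosed
import Mathlib.RingTheory.RootsOfUnity.AlgebraicallyClosed
import Mathlib.GroupTheory.FiniteAbelian.Duality
import Mathlib.GroupTheory.SpecificGroups.Cyclic

/-!
# Lower bounds for the rank of a block of full defect one
-/

set_option autoImplicit false
set_option linter.unusedSectionVars false

namespace Cfsg.Agent.Lib.DefectOne

open Cfsg Cfsg.Agent.Lib.Block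
open scoped ComplexConjugate

universe u v

variable {p : ℕ} {M : Ideal AlgInt} [M.IsPrime] {G : Type u} [Group G] [Fintype G]
  [Fact p.Prime] {P : Sylow p G}

theorem centralizer_le_nor (P : Sylow p G) :
    Subgroup.centralizer ((P : Subgroup G) : Set G) ≤ Nor P := Subgroup.centralizer_le_normalizer _

open scoped Classical in
/-- The action of the restricted block idempotent on a module of the normaliser. -/
noncomputable def blockOp (B : Set (IrrCharacter G)) {W : Type v} [AddCommGroup W]
    [Module (ResField M) W] (σ : Representation (ResField M) (Nor P) W) :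
    W →ₗ[ResField M] W :=
  ∑ c : {g : G // g ∈ Subgroup.centralizer ((P : Subgroup G) : Set G)},
    redC M (blockCoeff B c.1) • σ ⟨c.1, centralizer_le_nor P c.2⟩

/-- Inequivalent simple modules of the normaliser in a block bound its rank. -/
theorem card_le_blockRank (hM : IsPModular p M) (hP : Nat.card (P : Subgroup G) = p)
    {B : Set (IrrCharacter G)} (hB : IsPBlock M B) {ι : Type*} [Fintype ι] {d : ι → ℕ}
    (σ : ∀ i, Representation (ResField M) (Nor P) (Fin (d i) → ResField M))
    (hirr : ∀ i, (σ i).IsIrreducible) (htriv : ∀ i, TrivOn P (σ i))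
    (hne : ∀ i j, i ≠ j → ¬ ∃ e : (Fin (d j) → ResField M) ≃ₗ[ResField M] (Fin (d i) → ResField M),
      ∀ n w, e (σ j n w) = σ i n (e w))
    (hblock : ∀ i, blockOp B (σ i) = LinearMap.id) :
    Fintype.card ι ≤ blockRank p B := by
  classical
  haveI := resField_charP (M := M) hM
  haveI := resField_isAlgClosed (M := M) hM
  haveI := hirr
  have hW : ∀ i, Nontrivial (Fin (d i) → ResField M) := fun i => by
    by_contra h
    rw [not_nontrivial_iff_subsingleton] at h
    exact absurd (inferInstance : Nontrivial (Subrepresentation (σ i))) (not_nontrivial_iff_subsingleton.2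
      ⟨fun a b => Subrepresentation.toSubmodule_injective (Subsingleton.elim _ _)⟩)
  choose n τ j hτ hj using fun i => haveI := hW i; exists_simple_of_nontrivial (ResField M) hP (htriv i)
  haveI := hτ
  -- pairwise inequivalent
  have hτne : ∀ a b, a ≠ b → IsEmpty (Representation.Equiv (τ a) (τ b)) := by
    intro a b hab
    refine ⟨fun φ => hne a b hab ?_⟩
    let E : (Fin (n a) → ResField M) ≃ₗ[ResField M] (Fin (n b) → ResField M) := φ.toLinearEquiv
    have hE : ∀ g v, E (τ a g v) = τ b g (E v) := fun g v =>
      LinearMap.congr_fun (φ.toIntertwiningMap.isIntertwining' g) v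
    refine equiv_of_two hP (htriv a) (hj a) (ι' := E.symm.toLinearMap ∘ₗ j b) (htriv b) ⟨?_, ?_⟩
    · intro m w
      apply E.injective
      rw [hE]
      simp only [LinearMap.comp_apply, LinearEquiv.coe_coe, LinearEquiv.apply_symm_apply]
      exact (hj b).1 m w
    · obtain ⟨w, hw⟩ := (hj b).2
      refine ⟨w, fun ⟨x, hx⟩ => hw ⟨E x, ?_⟩⟩
      have : tr P (τ b) (E x) = E (tr P (τ a) x) := by
        rw [tr_apply, tr_apply, map_sum]
        exact Finset.sum_congr rfl fun g _ => (hE g x).symm
      rw [this, hx]
      simp
  have hli := linearIndependent_trace τ hτ hτne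
  refine le_blockRank hM hli fun i => ?_
  -- the idempotent acts as one
  let a : G → ResField M := fun g => redC M (blockCoeff B g)
  have ha : ∀ x g : G, a (x * g * x⁻¹) = a g := fun x g => by
    simp only [a, ← coeff_eIdem, isClassCoeff_eIdem B x g]
  let Z : Module.End (ResField M) (Fin (n i) → ResField M) := ∑ g, a g • τ i g
  have hZc : ∀ y v, Z (τ i y v) = τ i y (Z v) := by
    intro y v
    simp only [Z, LinearMap.sum_apply, LinearMap.smul_apply, map_sum, map_smul,
      ← Module.End.mul_apply, ← map_mul]
    refine Fintype.sum_equiv (MulAut.conj y⁻¹).toEquiv _ _ fun g => ?_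
    simp only [MulEquiv.toEquiv_eq_coe, MulEquiv.coe_toEquiv, MulAut.conj_apply]
    rw [ha, inv_inv]
    congr 2
    group
  obtain ⟨c, hc⟩ := (Representation.IsIrreducible.algebraMap_intertwiningMap_bijective_of_isAlgClosed
    (ρ := τ i)).2 (Z.intertwiningMap_of_isIntertwiningMap (τ i) (τ i) hZc)
  have hcs : ∀ u, Z u = c • u := fun u =>
    (congrArg (fun m : Representation.IntertwiningMap (τ i) (τ i) => m u) hc).symm
  have hc1 : c = 1 := by
    obtain ⟨w, hw⟩ := (hj i).2
    by_contra hne1
    refine hw ((Submodule.smul_mem_iff _ (sub_ne_zero.2 hne1)).1 ?_)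
    have hmem := sum_compl_centralizer_mem hP (τ i) a ha (j i w)
      fun x hx => (hj i).fixed (htriv i) hx w
    have hsplit : Z (j i w) = j i w +
        ∑ g : {g : G // g ∉ Subgroup.centralizer ((P : Subgroup G) : Set G)},
          a g.1 • τ i g.1 (j i w) := by
      simp only [Z, LinearMap.sum_apply, LinearMap.smul_apply]
      rw [← Fintype.sum_subtype_add_sum_subtype
        (fun g : G => g ∈ Subgroup.centralizer ((P : Subgroup G) : Set G))
        (fun g => a g • τ i g (j i w))]
      congr 1
      have h2 := congrArg (j i) (LinearMap.congr_fun (hblock i) w)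
      rw [LinearMap.id_apply] at h2
      refine Eq.trans ?_ h2
      simp only [blockOp, LinearMap.sum_apply, LinearMap.smul_apply, map_sum, map_smul]
      exact Finset.sum_congr rfl fun g _ => congrArg _
        ((hj i).1 ⟨g.1, centralizer_le_nor P g.2⟩ w)
    have e : (c - 1) • j i w = Z (j i w) - j i w := by rw [hcs, sub_smul, one_smul]
    rw [e, hsplit, add_sub_cancel_left]
    exact hmem
  refine RegFun.mem_span_block hM hB ⟨fun y g => ?_, fun x y hxy hx hy => ?_⟩ fun y => ?_
  · show LinearMap.trace _ _ (τ i (y * g * y⁻¹)) = LinearMap.trace _ _ (τ i g)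
    rw [map_mul, LinearMap.trace_mul_comm, ← map_mul]
    congr 2
    group
  · show LinearMap.trace _ _ (τ i (x * y)) = LinearMap.trace _ _ (τ i y)
    obtain ⟨k, hk⟩ := hx
    have hnil : IsNilpotent (τ i x - 1) := by
      refine ⟨p ^ k, ?_⟩
      have hsub : ((Polynomial.X : Polynomial (ResField M)) - 1) ^ p ^ k =
          Polynomial.X ^ p ^ k - 1 := by rw [sub_pow_char_pow, one_pow]
      have := congrArg (Polynomial.aeval (R := ResField M) (τ i x)) hsub
      simp only [map_pow, map_sub, Polynomial.aeval_X, map_one] at this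
      rw [this, ← map_pow, ← hk, pow_orderOf_eq_one, map_one, sub_self]
    have hc' : Commute (τ i y) (τ i x - 1) :=
      (hxy.symm.map (τ i)).sub_right (Commute.one_right _)
    rw [← sub_eq_zero, ← map_sub, show τ i (x * y) - τ i y = τ i y * (τ i x - 1) by
      rw [mul_sub, mul_one, ← map_mul, hxy.eq]]
    exact (LinearMap.isNilpotent_trace_of_isNilpotent
      (hc'.isNilpotent_mul_left hnil)).eq_zero
  · show ∑ g, a g * LinearMap.trace _ _ (τ i (g * y)) = LinearMap.trace _ _ (τ i y)
    have hZ1 : Z = 1 := LinearMap.ext fun u => by rw [hcs, hc1, one_smul, Module.End.one_apply]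
    conv_rhs => rw [← one_mul (τ i y), ← hZ1, Finset.sum_mul, map_sum]
    refine Finset.sum_congr rfl fun g _ => ?_
    rw [smul_mul_assoc, map_smul, smul_eq_mul, map_mul]

/-- The restricted principal idempotent sums to one. -/
theorem sum_principal_centralizer (hM : IsPModular p M)
    [DecidablePred fun x : G => x ∈ Subgroup.centralizer ((P : Subgroup G) : Set G)] :
    ∑ c : {g : G // g ∈ Subgroup.centralizer ((P : Subgroup G) : Set G)},
      redC M (blockCoeff (principalBlock M G) c.1) = 1 := by
  haveI := resField_charP (M := M) hM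
  have hB : IsPBlock M (principalBlock M G) := isPBlock_principalBlock
  have hR : ∀ g, blockCoeff (principalBlock M G) g ∈ locRing M := fun g =>
    intR_eIdem (M := M) hB g
  rw [← Finset.sum_subtype
    (Finset.univ.filter fun x : G => x ∈ Subgroup.centralizer ((P : Subgroup G) : Set G)) (by simp)
    (fun g => redC M (blockCoeff (principalBlock M G) g)),
    ← sum_conj_eq_sum_centralizer P.2 (fun g => redC M (blockCoeff (principalBlock M G) g))
      (fun u _ x => by simp only [← coeff_eIdem, isClassCoeff_eIdem _ u x]),
    ← redC_sum _ fun g _ => hR g]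
  have h := sum_blockCoeff_mul_eq_pair (principalBlock M G) (oneIrr G : G → ℂ) 1
  rw [pair_eIdem_mul_single, if_pos oneIrr_mem, oneIrr_apply] at h
  simp only [oneIrr_apply, mul_one] at h
  rw [h, redC_one]

/-- The inertial index bounds the rank of the principal block. -/
theorem relIndex_le_blockRank (hM : IsPModular p M) (hP : Nat.card (P : Subgroup G) = p) :
    (Subgroup.centralizer ((P : Subgroup G) : Set G)).relIndex (Nor P) ≤
      blockRank p (principalBlock M G) := by
  classical
  haveI := resField_charP (M := M) hM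
  haveI := resField_isAlgClosed (M := M) hM
  haveI : IsCyclic (P : Subgroup G) := isCyclic_of_prime_card hP
  let f : Nor P →* (ZMod (Nat.card (P : Subgroup G)))ˣ :=
    (IsCyclic.mulAutMulEquiv (P : Subgroup G)).toMonoidHom.comp
      (Subgroup.normalizerMonoidHom (P : Subgroup G))
  have hker : f.ker = (Subgroup.centralizer ((P : Subgroup G) : Set G)).subgroupOf (Nor P) := by
    rw [← Subgroup.normalizerMonoidHom_ker]
    ext m
    simp only [f, MonoidHom.mem_ker, MonoidHom.comp_apply, MulEquiv.coe_toMonoidHom,
      EmbeddingLike.map_eq_one_iff]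
  have hcard : Nat.card f.range =
      (Subgroup.centralizer ((P : Subgroup G) : Set G)).relIndex (Nor P) := by
    rw [Subgroup.relIndex, ← hker, Subgroup.index_ker]
  have hpR : ¬ p ∣ Monoid.exponent f.range := by
    intro h
    haveI : NeZero (Nat.card (P : Subgroup G)) := ⟨Nat.card_pos.ne'⟩
    have h1 := (h.trans Group.exponent_dvd_nat_card).trans (Subgroup.card_subgroup_dvd_card f.range)
    rw [hP, Nat.card_eq_fintype_card, ZMod.card_units] at h1
    have := Nat.le_of_dvd (by have := (Fact.out : p.Prime).two_le; omega) h1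
    have := (Fact.out : p.Prime).two_le
    omega
  haveI : NeZero ((Monoid.exponent f.range : ℕ) : ResField M) :=
    ⟨fun h => hpR ((CharP.cast_eq_zero_iff _ p _).1 h)⟩
  rw [← hcard, ← CommGroup.card_monoidHom_of_hasEnoughRootsOfUnity f.range (ResField M)]
  haveI : Fintype (f.range →* (ResField M)ˣ) := Fintype.ofFinite _
  rw [Nat.card_eq_fintype_card]
  let σ : (f.range →* (ResField M)ˣ) → Representation (ResField M) (Nor P) (Fin 1 → ResField M) :=
    fun μ =>
      { toFun := fun m => ((μ (f.rangeRestrict m) : (ResField M)ˣ) : ResField M) •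
          (1 : Module.End (ResField M) (Fin 1 → ResField M))
        map_one' := by simp
        map_mul' := fun a b => by rw [smul_mul_smul_comm, mul_one, map_mul, map_mul, Units.val_mul] }
  have hσ : ∀ μ m w, σ μ m w = ((μ (f.rangeRestrict m) : (ResField M)ˣ) : ResField M) • w :=
    fun μ m w => rfl
  have hσ1 : ∀ μ (m : Nor P), (m : G) ∈ Subgroup.centralizer ((P : Subgroup G) : Set G) →
      σ μ m = 1 := by
    intro μ m hm
    have : f.rangeRestrict m = 1 := by
      rw [← MonoidHom.mem_ker, MonoidHom.ker_rangeRestrict, hker]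
      exact hm
    refine LinearMap.ext fun w => ?_
    rw [hσ, this, map_one, Units.val_one, one_smul, Module.End.one_apply]
  refine card_le_blockRank hM hP isPBlock_principalBlock σ (fun μ => ?_) (fun μ m hm => ?_)
    (fun a b hab => ?_) fun μ => ?_
  · haveI : Nontrivial (Subrepresentation (σ μ)) := ⟨⟨⊥, ⊤, fun h => by
      have := congrArg Subrepresentation.toSubmodule h
      exact bot_ne_top (α := Submodule (ResField M) (Fin 1 → ResField M)) this⟩⟩
    refine ⟨fun U => ?_⟩
    by_cases hU : U.toSubmodule = ⊥
    · exact Or.inl (Subrepresentation.toSubmodule_injective hU)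
    · refine Or.inr (Subrepresentation.toSubmodule_injective (Submodule.eq_top_of_finrank_eq ?_))
      have h1 := U.toSubmodule.finrank_le
      have h2 : Module.finrank (ResField M) U.toSubmodule ≠ 0 := fun h =>
        hU (Submodule.finrank_eq_zero.1 h)
      rw [Module.finrank_fin_fun] at h1 ⊢
      omega
  · refine hσ1 μ m ?_
    exact Subgroup.mem_centralizer_iff.2 fun y hy => congrArg Subtype.val
      ((inferInstance : IsCyclic (P : Subgroup G)).commutative.is_comm.comm
        (⟨y, hy⟩ : (P : Subgroup G)) ⟨(m : G), hm⟩)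
  · rintro ⟨e, he⟩
    refine hab (MonoidHom.ext fun r => ?_)
    obtain ⟨m, rfl⟩ := f.rangeRestrict_surjective r
    have h := congrFun (he m (e.symm (fun _ => 1))) 0
    rw [hσ, hσ, map_smul, LinearEquiv.apply_symm_apply] at h
    exact Units.ext (by simpa using h.symm)
  · refine LinearMap.ext fun w => ?_
    simp only [blockOp, LinearMap.sum_apply, LinearMap.smul_apply, LinearMap.id_apply]
    rw [Finset.sum_congr rfl fun c _ => by
      rw [hσ1 μ _ c.2, Module.End.one_apply], ← Finset.sum_smul, sum_principal_centralizer hM,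
      one_smul]

end Cfsg.Agent.Lib.DefectOne
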