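import Cfsg.Agent.Lib.DefectOne.Exceptional
import Cfsg.Agent.Lib.DefectOne.Rank
import Cfsg.Agent.Lib.Block.Principal
import Cfsg.Agent.Lib.Block.Brauer

/-!
# The principal block when the Sylow subgroup has prime order
-/

set_option autoImplicit false
set_option linter.unusedSectionVars false

namespace Cfsg.Agent.Lib.DefectOne

open Cfsg Cfsg.Agent.Lib Cfsg.Agent.Lib.Char Cfsg.Agent.Lib.Char.UC
open scoped ComplexConjugate

universe u

variable {p : ℕ} [Fact p.Prime] {G : Type u} [Group G] [Fintype G] {P : Sylow p G}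
  {M : Ideal AlgInt} [M.IsPrime]

variable (P) in
/-- The trivial character. -/
noncomputable def oneTh : Th P :=
  ⟨⟨fun _ => 1, isIrrCharacter_one⟩, fun _ _ => rfl⟩

theorem Tgrp_oneTh : Tgrp (oneTh P) = N P := by
  ext g
  exact ⟨fun h => h.1, fun h => ⟨h, cj_one_fun h⟩⟩

theorem blockOf_oneTh : blockOf M ((oneTh P).1 : C P → ℂ) = principalBlock M (C P) := rfl

/-- Every block of the centraliser induces a block. -/
theorem exists_induced_C (hM : IsPModular p M) (hP : Nat.card (P : Subgroup G) = p) (θ : Th P) :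
    ∃ B : Set (IrrCharacter G), IsInducedBlock M (C P) (blockOf M (θ.1 : C P → ℂ)) B :=
  Block.inducedBlockDefined_of_brauer hM P.2 (le_C (star_of_card hP)) le_rfl (C_le_N P)
    (Block.isPBlock_blockOf θ.1)

theorem induced_principal (hM : IsPModular p M) (hP : Nat.card (P : Subgroup G) = p) :
    IsInducedBlock M (C P) (blockOf M ((oneTh P).1 : C P → ℂ)) (principalBlock M G) := by
  obtain ⟨B, hB⟩ := exists_induced_C hM hP (oneTh P)
  have := (Block.induced_principal_iff hM hB).2 blockOf_oneTh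
  rwa [this] at hB

/-- Values of members of the principal block at the singular elements of the centraliser. -/
theorem apply_singular_principal (hM : IsPModular p M) (hP : Nat.card (P : Subgroup G) = p)
    {χ : IrrCharacter G} (hχ : χ ∈ principalBlock M G) {x : (P : Subgroup G)} (hx : x ≠ 1)
    {y : C P} (hy : ¬ p ∣ orderOf y) :
    (χ : G → ℂ) ((x : G) * (y : G)) = S hP (oneTh P) χ x := by
  classical
  rw [apply_eq_sum_S hP χ x hy, Finset.sum_eq_single (oneTh P)]
  · show _ * (1 : ℂ) = _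
    rw [mul_one]
  · intro θ _ hθ
    obtain ⟨B, hB⟩ := exists_induced_C hM hP θ
    rw [S_eq_zero hM hP θ hB (fun hχB => hθ ?_) hx, zero_mul]
    have e : principalBlock M G = B :=
      Block.eq_of_mem_of_mem Block.isPBlock_principalBlock hB.2.1 hχ hχB
    have h2 := (Block.induced_principal_iff hM hB).1 e.symm
    have h3 : phi lamOne (oneTh P) ∈ blockOf M (θ.1 : C P → ℂ) := by
      rw [h2, phi_one, ← blockOf_oneTh]
      exact Block.mem_blockOf_self _
    exact ((phi_mem_block_iff hM hP lamOne θ (oneTh P)).1 h3).symm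
  · simp

/-- Degrees are congruent to the component. -/
theorem charDegree_congr (hM : IsPModular p M) (hP : Nat.card (P : Subgroup G) = p)
    {χ : IrrCharacter G} (hχ : χ ∈ principalBlock M G) :
    ((charDegree (χ : G → ℂ) : ℕ) : Block.ResField M) =
      ((R (oneTh P) χ : ℤ) : Block.ResField M) := by
  obtain ⟨x, hx, hx1⟩ := exists_mem_ne_one (P := P) hP
  have hc := isCharacter_of_isIrr χ.2
  have hxp : Block.IsPElem p x := Block.isPElem_of_mem P.2 hx
  have h := apply_singular_principal hM hP hχ (x := ⟨x, hx⟩)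
    (fun h => hx1 (congrArg Subtype.val h)) (y := 1) not_dvd_one'
  rw [← (redC_S hM hP (oneTh P) χ ⟨x, hx⟩).2, ← h, OneMemClass.coe_one,
    Block.redC_char_pPart hM hc (Commute.one_right _) hxp
      (by rw [orderOf_one]; exact (Fact.out : p.Prime).not_dvd_one),
    apply_one_eq_charDegree hc, Block.redC_natCast]

/-- The structure of the principal block. -/
theorem principal_structure (hM : IsPModular p M) (hP : Nat.card (P : Subgroup G) = p) :
    (C P).relIndex (N P) ∣ p - 1 ∧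
    ∃ (Z Y : Finset (IrrCharacter G)) (sgn : IrrCharacter G → ℤ) (ε : ℤ),
      principalBlock M G = (Z : Set (IrrCharacter G)) ∪ (Y : Set (IrrCharacter G)) ∧ Disjoint Z Y ∧
      Z.card = (C P).relIndex (N P) ∧ Y.card = (p - 1) / (C P).relIndex (N P) ∧
      (ε = 1 ∨ ε = -1) ∧
      (∀ χ ∈ Z, (sgn χ = 1 ∨ sgn χ = -1) ∧ (charDegree (χ : G → ℂ) : ℤ) ≡ sgn χ [ZMOD p] ∧
        ∀ x : G, x ∈ (P : Subgroup G) → x ≠ 1 → ∀ y : G, y ∈ C P → ¬ p ∣ orderOf y →
          (χ : G → ℂ) (x * y) = (sgn χ : ℂ)) ∧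
      (∀ ψ ∈ Y, (charDegree (ψ : G → ℂ) : ℤ) ≡ ε * ((C P).relIndex (N P) : ℕ) [ZMOD p]) ∧
      (∀ ψ ∈ Y, ∀ ψ' ∈ Y, ∀ g : G, ¬ p ∣ orderOf g → (ψ : G → ℂ) g = (ψ' : G → ℂ) g) ∧
      (∀ ψ ∈ Y, ∀ g : G, ¬ p ∣ orderOf g →
        (ε : ℂ) * (ψ : G → ℂ) g = ∑ χ ∈ Z, (sgn χ : ℂ) * (χ : G → ℂ) g) := by
  haveI := Block.resField_charP (M := M) hM
  have h1 : ∃ ψ ∈ principalBlock M G, ¬ p ∣ charDegree (ψ : G → ℂ) :=
    ⟨Block.oneIrr G, Block.oneIrr_mem, by
      rw [show charDegree (Block.oneIrr G : G → ℂ) = 1 from charDegree_one]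
      exact (Fact.out : p.Prime).not_dvd_one⟩
  obtain ⟨hdvd, Z, Y, sgn, ε, hB, hd, hZ, hY, hε, hZv, hYv, hYr, hrel⟩ :=
    exists_structure hM hP (oneTh P) Block.isPBlock_principalBlock (induced_principal hM hP) h1
      (by rw [Tgrp_oneTh]; exact relIndex_le_blockRank hM hP)
  rw [Tgrp_oneTh] at hdvd hZ hY hYv
  have hcong : ∀ χ ∈ principalBlock M G, ∀ z : ℤ,
      ((R (oneTh P) χ : ℤ) : Block.ResField M) = (z : Block.ResField M) →
      (charDegree (χ : G → ℂ) : ℤ) ≡ z [ZMOD p] := fun χ hχ z hz => by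
    refine (CharP.intCast_eq_intCast (Block.ResField M) p).1 ?_
    rw [← hz, Int.cast_natCast, charDegree_congr hM hP hχ]
  refine ⟨hdvd, Z, Y, sgn, ε, hB, hd, hZ, hY, hε, fun χ hχ => ?_, fun ψ hψ => ?_, hYr, hrel⟩
  · obtain ⟨hs, hv⟩ := hZv χ hχ
    have hmem : χ ∈ principalBlock M G := by
      rw [hB]; exact Or.inl hχ
    refine ⟨hs, hcong χ hmem _ ?_, fun x hx hx1 y hy hyr => ?_⟩
    · obtain ⟨x, hx, hx1⟩ := exists_mem_ne_one (P := P) hP
      rw [← (redC_S hM hP (oneTh P) χ ⟨x, hx⟩).2,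
        hv ⟨x, hx⟩ fun h => hx1 (congrArg Subtype.val h)]
      rcases hs with h | h <;> rw [h]
      · simp [Block.redC_one]
      · rw [show ((-1 : ℤ) : ℂ) = (0 : ℂ) - 1 by norm_num,
          Block.redC_sub (zero_mem _) (one_mem _), Block.redC_zero, Block.redC_one]
        simp
    · have hx' : (⟨x, hx⟩ : (P : Subgroup G)) ≠ 1 := fun h => hx1 (congrArg Subtype.val h)
      rw [← hv _ hx']
      exact apply_singular_principal hM hP hmem hx' (y := ⟨y, hy⟩)
        (by rwa [Subgroup.orderOf_mk])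
  · exact hcong ψ (by rw [hB]; exact Or.inr hψ) _ (hYv ψ hψ)

end Cfsg.Agent.Lib.DefectOne
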