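import Cfsg.Agent.Lib.DefectOne.GaloisConj
import Cfsg.Agent.Lib.Block.FirstMain
import Cfsg.Agent.Lib.BrauerPairs.Covering

/-!
# Counting the characters of degree prime to `p` when `p` divides the order once

The count is a sum over the characters of the centraliser trivial on the Sylow subgroup and only
depends on the action of the normaliser.
-/

set_option autoImplicit false
set_option linter.unusedSectionVars false

namespace Cfsg.Agent.Lib.DefectOne

open Cfsg Cfsg.Agent.Lib Cfsg.Agent.Lib.Char Cfsg.Agent.Lib.Char.UC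

universe u

variable {p : ℕ} [Fact p.Prime] {G : Type u} [Group G] [Fintype G] {P : Sylow p G}
  {M : Ideal AlgInt} [M.IsPrime]

/-- The contribution of a trivial character to the count. -/
noncomputable def weight (θ : Th P) : ℚ :=
  (((C P).relIndex (Tgrp θ) + (p - 1) / (C P).relIndex (Tgrp θ) : ℕ) : ℚ) /
    ((Tgrp θ).relIndex (N P) : ℚ)

/-- An induced block from the centraliser has defect one. -/
theorem blockDefect_of_induced (hM : IsPModular p M) (hP : Nat.card (P : Subgroup G) = p)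
    {B : Set (IrrCharacter G)} {b : Set (IrrCharacter (C P))}
    (h : IsInducedBlock M (C P) b B) : blockDefect p B = 1 := by
  have hB : IsPBlock M B := h.2.1
  refine le_antisymm ?_ ?_
  · rw [blockDefect, factorization_card hP]; exact Nat.sub_le _ _
  · obtain ⟨-, he, -, hocc⟩ :=
      (BrauerPairs.isBrauerPairOf_iff hM).1 (isBrauerPairOf_of_induced hM hP h)
    obtain ⟨D, hD⟩ := Block.exists_isDefectGroup hM hB
    obtain ⟨g, hg⟩ := BrauerPairs.conjLE_of_br_bar_ne_zero hM hB hD P.2 (hocc.br_ne_zero he)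
    have hc := Subgroup.card_le_of_le hg
    rw [Subgroup.card_map_of_injective (MulEquiv.injective _)] at hc
    by_contra h0
    rw [(Block.IsDefectGroup.props hM hB hD).2.1, hP,
      show blockDefect p B = 0 by omega, pow_zero] at hc
    have := (Fact.out : p.Prime).two_le
    omega

/-- The characters of degree prime to `p`, counted over the trivial characters of the centraliser. -/
theorem card_pPrime_degree (hM : IsPModular p M) (hP : Nat.card (P : Subgroup G) = p)
    (hsq : ¬ p ^ 2 ∣ Nat.card G) :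
    (Nat.card {χ : IrrCharacter G // ¬ p ∣ charDegree (χ : G → ℂ)} : ℚ) = ∑ θ : Th P, weight θ := by
  classical
  choose Bl hBl using fun θ : Th P => exists_induced_C hM hP θ
  have hd : ∀ θ, blockDefect p (Bl θ) = 1 := fun θ => blockDefect_of_induced hM hP (hBl θ)
  have hht : ∀ θ, ∀ χ ∈ Bl θ, ¬ p ∣ charDegree (χ : G → ℂ) ∧
      blockHeight p (Bl θ) (χ : G → ℂ) = 0 := fun θ χ hχ => by
    obtain ⟨ψ, hψ, hψd⟩ := exists_degree hM hP (hBl θ).2.1 (by rw [hd]; exact Nat.one_pos)
    exact height_zero hM hP (hBl θ).2.1 hψ hψd hχ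
  have hsize : ∀ θ, (Bl θ).toFinset.card =
      (C P).relIndex (Tgrp θ) + (p - 1) / (C P).relIndex (Tgrp θ) := fun θ => by
    obtain ⟨-, Z, Y, sgn, ε, hB, hdis, hZ, hY, -⟩ :=
      exists_structure_galois hM hP hsq θ (hBl θ).2.1 (hBl θ) (hd θ)
    simp only [hB, ← Finset.coe_union, Finset.toFinset_coe, Finset.card_union_of_disjoint hdis, hZ,
      hY]
  have hfib : ∀ θ θ', Bl θ' = Bl θ ↔ θ' ∈ orb θ := fun θ θ' => by
    rw [mem_orb]
    refine ⟨fun h => exists_conj_of_induced hM hP (hBl θ).2.1 (hd θ) (hBl θ) (h ▸ hBl θ'), ?_⟩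
    rintro ⟨g, rfl⟩
    obtain ⟨χ, hχ⟩ := Block.isPBlock_nonempty (hBl θ).2.1
    obtain ⟨x, hx, hx1⟩ := exists_mem_ne_one (P := P) hP
    refine Block.eq_of_mem_of_mem (hBl _).2.1 (hBl θ).2.1 (?_ : χ ∈ _) hχ
    by_contra hne
    have h0 := S_eq_zero hM hP _ (hBl (cjTh g.2 θ)) hne (x := ⟨x, hx⟩)
      fun h => hx1 (congrArg Subtype.val h)
    rw [S_cjTh hP g.2] at h0
    refine S_ne_zero hM hP θ (hBl θ) hχ (hht θ χ hχ).2 (fun h => hx1 ?_) h0
    have := congrArg (fun y : (P : Subgroup G) => (g : G) * (y : G) * (g : G)⁻¹) h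
    simpa [mul_assoc] using this
  have hsurj : ∀ χ : IrrCharacter G, ¬ p ∣ charDegree (χ : G → ℂ) → ∃ θ, χ ∈ Bl θ := by
    intro χ hχ
    have hB := Block.isPBlock_blockOf (M := M) χ
    have hd1 : blockDefect p (blockOf M (χ : G → ℂ)) = 1 := by
      rw [blockDefect, factorization_card hP,
        show sInf ((fun ξ : IrrCharacter G => (charDegree (ξ : G → ℂ)).factorization p) ''
          blockOf M (χ : G → ℂ)) = 0 from Nat.eq_zero_of_le_zero ((Nat.sInf_le (s :=
            (fun ξ : IrrCharacter G => (charDegree (ξ : G → ℂ)).factorization p) ''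
              blockOf M (χ : G → ℂ)) ⟨χ, Block.mem_blockOf_self χ, rfl⟩).trans
            (Nat.factorization_eq_zero_of_not_dvd hχ).le)]
    obtain ⟨D, hD⟩ := Block.exists_isDefectGroup hM hB
    have hDc : Nat.card D = p := by
      rw [(Block.IsDefectGroup.props hM hB hD).2.1, hd1, pow_one]
    obtain ⟨Q, hQ⟩ : ∃ Q : Sylow p G, (Q : Subgroup G) = D :=
      ⟨Sylow.ofCard D (by rw [hDc, factorization_card hP, pow_one]), by simp⟩
    obtain ⟨g, rfl⟩ := MulAction.exists_smul_eq G Q P
    have hD' := Block.IsDefectGroup.map_conj hM hB hD g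
    rw [← hQ, show (Q : Subgroup G).map (MulAut.conj g).toMonoidHom = ((g • Q : Sylow p G) : Subgroup G)
      from rfl] at hD'
    obtain ⟨b, hb⟩ := Block.exists_inducing_block hM (g • Q).2 (le_C (star_of_card hP)) le_rfl
      (C_le_N _) hB hD' le_rfl
    obtain ⟨φ, hφ⟩ := Block.isPBlock_nonempty hb.1
    obtain ⟨⟨ξ, θ⟩, hξθ⟩ := (phi_bijective hP).2 φ
    refine ⟨θ, ?_⟩
    have hmem : φ ∈ blockOf M (θ.1 : C _ → ℂ) := by
      rw [← hξθ]
      exact (phi_mem_block_iff hM hP ξ θ θ).2 rfl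
    rw [← Block.eq_of_mem_of_mem (Block.isPBlock_blockOf θ.1) hb.1 hmem hφ] at hb
    rw [BrauerPairs.induced_block_unique (hBl θ) hb]
    exact Block.mem_blockOf_self χ
  set T := (Finset.univ : Finset (Th P)).image Bl with hT
  have hU : Nat.card {χ : IrrCharacter G // ¬ p ∣ charDegree (χ : G → ℂ)} =
      ∑ B ∈ T, B.toFinset.card := by
    rw [Nat.card_eq_fintype_card, Fintype.card_subtype, ← Finset.card_biUnion]
    · congr 1
      ext χ
      simp only [Finset.mem_filter, Finset.mem_univ, true_and, Finset.mem_biUnion, Set.mem_toFinset,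
        hT, Finset.mem_image]
      constructor
      · intro h
        obtain ⟨θ, hθ⟩ := hsurj χ h
        exact ⟨_, ⟨θ, rfl⟩, hθ⟩
      · rintro ⟨_, ⟨θ, rfl⟩, hθ⟩
        exact (hht θ χ hθ).1
    · intro B hB B' hB' hne
      obtain ⟨θ, -, rfl⟩ := Finset.mem_image.1 hB
      obtain ⟨θ', -, rfl⟩ := Finset.mem_image.1 hB'
      rw [Function.onFun, Finset.disjoint_left]
      intro χ h h'
      rw [Set.mem_toFinset] at h h'
      exact hne (Block.eq_of_mem_of_mem (hBl θ).2.1 (hBl θ').2.1 h h')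
  rw [hU, Nat.cast_sum, ← Finset.sum_fiberwise_of_maps_to (t := T) (g := Bl)
    fun θ _ => Finset.mem_image_of_mem _ (Finset.mem_univ θ)]
  refine Finset.sum_congr rfl fun B hB => ?_
  obtain ⟨θ, -, rfl⟩ := Finset.mem_image.1 hB
  have hf : (Finset.univ.filter fun θ' => Bl θ' = Bl θ) = orb θ := by
    ext θ'; simp [hfib]
  rw [hf]
  have hw : ∀ θ' ∈ orb θ, weight θ' = ((Bl θ).toFinset.card : ℚ) / ((orb θ).card : ℚ) := by
    intro θ' hθ'
    have hB' : Bl θ' = Bl θ := (hfib θ θ').2 hθ'
    have ho : orb θ' = orb θ := by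
      ext θ''; rw [← hfib, ← hfib, hB']
    rw [weight, ← hsize, ← card_orb]
    simp only [hB', ho]
  rw [Finset.sum_congr rfl hw, Finset.sum_const, nsmul_eq_mul]
  have h0 : ((orb θ).card : ℚ) ≠ 0 := by
    rw [card_orb]; exact Nat.cast_ne_zero.2 Subgroup.index_ne_zero_of_finite
  field_simp

omit [M.IsPrime] in
/-- The count does not change when passing to the normaliser. -/
theorem sum_weight_normalizer (hle : (P : Subgroup G) ≤ N P) [Fintype (N P)] :
    ∑ θ : Th P, weight θ = ∑ θ' : Th (P.subtype hle), weight θ' := by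
  classical
  set P' := P.subtype hle with hP'
  have hc : ((P' : Subgroup (N P)) : Subgroup (N P)) = (P : Subgroup G).subgroupOf (N P) := rfl
  have hNP : N P' = ⊤ := by
    refine eq_top_iff.2 fun n _ => Subgroup.mem_normalizer_iff.2 fun y => ?_
    rw [hc, Subgroup.mem_subgroupOf, Subgroup.mem_subgroupOf]
    exact Subgroup.mem_normalizer_iff.1 n.2 (y : G)
  have hmemC : ∀ n : N P, n ∈ C P' ↔ (n : G) ∈ C P := by
    intro n
    simp only [C, Subgroup.mem_centralizer_iff, SetLike.mem_coe]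
    constructor
    · intro h y hy
      exact congrArg Subtype.val (h ⟨y, hle hy⟩ (by rw [hc]; exact hy))
    · intro h y hy
      rw [hc] at hy
      exact Subtype.ext (h y hy)
  let e : C P' ≃* C P :=
    { toFun := fun c => ⟨((c : N P) : G), (hmemC c).1 c.2⟩
      invFun := fun c => ⟨⟨c, C_le_N P c.2⟩, (hmemC _).2 c.2⟩
      left_inv := fun _ => rfl
      right_inv := fun _ => rfl
      map_mul' := fun _ _ => rfl }
  let F : Th P ≃ Th P' :=
    { toFun := fun θ => ⟨⟨(θ.1 : C P → ℂ) ∘ e, isIrrCharacter_comp θ.1.2 e.toMonoidHom e.surjective⟩,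
        fun x hx => by
          show (θ.1 : C P → ℂ) (e x) = (θ.1 : C P → ℂ) (e 1)
          rw [map_one]
          exact θ.2 (e x) (by rw [hc] at hx; exact hx)⟩
      invFun := fun θ => ⟨⟨(θ.1 : C P' → ℂ) ∘ e.symm,
          isIrrCharacter_comp θ.1.2 e.symm.toMonoidHom e.symm.surjective⟩,
        fun x hx => by
          show (θ.1 : C P' → ℂ) (e.symm x) = (θ.1 : C P' → ℂ) (e.symm 1)
          rw [map_one]
          exact θ.2 (e.symm x) (by rw [hc]; exact hx)⟩
      left_inv := fun θ => Subtype.ext (Subtype.ext (funext fun c => by simp))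
      right_inv := fun θ => Subtype.ext (Subtype.ext (funext fun c => by simp)) }
  have hT : ∀ θ, Tgrp (F θ) = (Tgrp θ).subgroupOf (N P) := by
    intro θ
    ext n
    have hn : n ∈ N P' := hNP ▸ Subgroup.mem_top n
    have key : ∀ c : C P', cj P' n ((F θ).1 : C P' → ℂ) c = cj P (n : G) (θ.1 : C P → ℂ) (e c) :=
      fun c => by
        rw [cj_apply hn, cj_apply n.2]
        rfl
    rw [mem_Tgrp, Subgroup.mem_subgroupOf, mem_Tgrp]
    constructor
    · rintro ⟨-, h⟩
      refine ⟨n.2, funext fun c => ?_⟩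
      obtain ⟨c', rfl⟩ := e.surjective c
      rw [← key]
      exact congrFun h c'
    · rintro ⟨-, h⟩
      exact ⟨hn, funext fun c => (key c).trans (congrFun h (e c))⟩
  refine Fintype.sum_equiv F _ _ fun θ => ?_
  have hCmap : (C P').map (N P).subtype = C P := by
    ext g
    refine ⟨?_, fun hg => ⟨⟨g, C_le_N P hg⟩, (hmemC _).2 hg, rfl⟩⟩
    rintro ⟨n, hn, rfl⟩
    exact (hmemC n).1 hn
  have hC : C P' = (C P).subgroupOf (N P) := by
    ext n; rw [Subgroup.mem_subgroupOf]; exact hmemC n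
  have hTle : Tgrp θ ≤ N P := fun g hg => hg.1
  simp only [weight, hT, hNP, Subgroup.relIndex_top_right, hC]
  rw [Subgroup.relIndex_subgroupOf hTle]
  rfl

end Cfsg.Agent.Lib.DefectOne
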