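import Cfsg.Agent.Lib.Char.UniformBasic
import Cfsg.Agent.Lib.Block.Parts
import Cfsg.Agent.Lib.Block.Apply
import Cfsg.Agent.Lib.Block.HeightZero
import Cfsg.Agent.Lib.Char.Regular
import Cfsg.Agent.S4428
import Mathlib.RingTheory.IntegralDomain

/-!
# The components of a character on the centraliser of a Sylow subgroup of prime order
-/

set_option autoImplicit false
set_option linter.unusedSectionVars false

namespace Cfsg.Agent.Lib.DefectOne

open Cfsg Cfsg.Agent.Lib Cfsg.Agent.Lib.Char Cfsg.Agent.Lib.Char.UC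
open scoped ComplexConjugate

universe u

variable {p : ℕ} [Fact p.Prime] {G : Type u} [Group G] [Fintype G] {P : Sylow p G}

theorem star_of_card (hP : Nat.card (P : Subgroup G) = p) : UC.Star P := by
  intro x hx h1
  have ho : orderOf x = p := by
    rcases (Nat.dvd_prime Fact.out).1 (hP ▸ (Subgroup.orderOf_mk x hx ▸
      orderOf_dvd_natCard (⟨x, hx⟩ : (P : Subgroup G)))) with h | h
    · exact absurd (orderOf_eq_one_iff.1 h) h1
    · exact h
  have hz : Subgroup.zpowers x = (P : Subgroup G) :=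
    Subgroup.eq_of_le_of_card_ge (Subgroup.zpowers_le.2 hx) (by rw [hP, Nat.card_zpowers, ho])
  refine le_antisymm (fun g hg => Subgroup.mem_centralizer_iff.2 fun y hy => ?_) fun g hg =>
    Subgroup.mem_centralizer_singleton_iff.2 (Subgroup.mem_centralizer_iff.1 hg x hx).symm
  rw [SetLike.mem_coe, ← hz] at hy
  obtain ⟨i, rfl⟩ := hy
  exact ((show Commute x g from (Subgroup.mem_centralizer_singleton_iff.1 hg).symm).zpow_left i).eq

/-- Trivial on the Sylow subgroup. -/
def IsTriv (θ : IrrCharacter (C P)) : Prop :=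
  ∀ x : C P, (x : G) ∈ (P : Subgroup G) → (θ : C P → ℂ) x = (θ : C P → ℂ) 1

variable (P) in
/-- The linear characters trivial on the regular elements. -/
abbrev Lam : Type u := {ξ : C P →* ℂˣ // InL (P := P) ξ}

variable (P) in
/-- The characters trivial on the Sylow subgroup. -/
abbrev Th : Type u := {θ : IrrCharacter (C P) // IsTriv θ}

noncomputable instance : Fintype (Lam P) :=
  haveI : Finite (Lam P) := Finite.of_injective (fun a : Lam P =>
    (⟨fun c => ((a.1 c : ℂˣ) : ℂ), isIrrCharacter_linear a.1⟩ : IrrCharacter (C P))) fun a b h =>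
      Subtype.ext (MonoidHom.ext fun c => Units.ext (congrFun (congrArg Subtype.val h) c))
  Fintype.ofFinite _

noncomputable instance : Fintype (Th P) := Fintype.ofFinite _

/-- The trivial element. -/
def lamOne : Lam P := ⟨1, fun _ _ => rfl⟩

theorem card_Lam (hP : Nat.card (P : Subgroup G) = p) : Fintype.card (Lam P) = p := by
  rw [← Nat.card_eq_fintype_card, (exists_extension (star_of_card hP)).2, hP]

theorem card_Lam_ne_one [DecidableEq (Lam P)] (hP : Nat.card (P : Subgroup G) = p) :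
    (Finset.univ.filter fun ξ : Lam P => ξ ≠ lamOne).card = p - 1 := by
  rw [Finset.filter_ne', Finset.card_erase_of_mem (Finset.mem_univ _), Finset.card_univ, card_Lam hP]

/-- The character attached to a pair. -/
noncomputable def phi (ξ : Lam P) (θ : Th P) : IrrCharacter (C P) :=
  ⟨lin ξ.1 * (θ.1 : C P → ℂ), isIrrCharacter_linear_mul θ.1.2 ξ.1⟩

theorem phi_one (θ : Th P) : phi (lamOne : Lam P) θ = θ.1 :=
  Subtype.ext (funext fun c => by simp [phi, lamOne, lin])

/-- The element of the centraliser attached to an element of the Sylow subgroup. -/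
def inC (hP : Nat.card (P : Subgroup G) = p) (x : (P : Subgroup G)) : C P :=
  ⟨x, le_C (star_of_card hP) x.2⟩

theorem theta_mul {θ : IrrCharacter (C P)} (hθ : IsTriv θ) {x : C P}
    (hx : (x : G) ∈ (P : Subgroup G)) (y : C P) : (θ : C P → ℂ) (x * y) = (θ : C P → ℂ) y :=
  (char_mul_of_eq_one (isCharacter_of_isIrr θ.2) (hθ x hx) y).1

theorem exists_parts (c : C P) : ∃ x y : C P, x * y = c ∧ Commute x y ∧
    (x : G) ∈ (P : Subgroup G) ∧ ¬ p ∣ orderOf y := by
  obtain ⟨x, y, h, hc, hx, hy⟩ := Block.exists_isPPart (p := p) c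
  refine ⟨x, y, h, hc, mem_of_pElem ?_ x.2, hy⟩
  obtain ⟨k, hk⟩ := hx
  exact ⟨k, by rw [Subgroup.orderOf_coe, hk]⟩

theorem phi_apply (ξ : Lam P) (θ : Th P) {x y : C P} (hx : (x : G) ∈ (P : Subgroup G))
    (hy : ¬ p ∣ orderOf y) :
    (phi ξ θ : C P → ℂ) (x * y) = (ξ.1 x : ℂ) * (θ.1 : C P → ℂ) y := by
  show (ξ.1 (x * y) : ℂ) * (θ.1 : C P → ℂ) (x * y) = _
  rw [theta_mul θ.2 hx, map_mul, ξ.2 y hy, mul_one]

theorem not_dvd_one' : ¬ p ∣ orderOf (1 : C P) := by
  rw [orderOf_one]; exact (Fact.out : p.Prime).not_dvd_one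

theorem phi_bijective (hP : Nat.card (P : Subgroup G) = p) :
    Function.Bijective fun q : Lam P × Th P => phi q.1 q.2 := by
  haveI := Fintype.ofFinite (C P)
  refine ⟨fun q q' h => ?_, fun φ => ?_⟩
  · obtain ⟨ξ, θ⟩ := q
    obtain ⟨ξ', θ'⟩ := q'
    have hv : ∀ {x y : C P}, (x : G) ∈ (P : Subgroup G) → ¬ p ∣ orderOf y →
        (ξ.1 x : ℂ) * (θ.1 : C P → ℂ) y = (ξ'.1 x : ℂ) * (θ'.1 : C P → ℂ) y := by
      intro x y hx hy
      rw [← phi_apply ξ θ hx hy, ← phi_apply ξ' θ' hx hy]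
      exact congrFun (congrArg Subtype.val h) (x * y)
    have hreg : ∀ y : C P, ¬ p ∣ orderOf y → (θ.1 : C P → ℂ) y = (θ'.1 : C P → ℂ) y := fun y hy => by
      simpa using hv (x := 1) (one_mem _) hy
    have hθ : θ = θ' := Subtype.ext (Subtype.ext (funext fun c => by
      obtain ⟨x, y, rfl, -, hx, hy⟩ := exists_parts c
      rw [theta_mul θ.2 hx, theta_mul θ'.2 hx, hreg y hy]))
    subst hθ
    refine Prod.ext (Subtype.ext (eq_of_eq_on ξ.2 ξ'.2 fun c hc => Units.ext ?_)) rfl
    exact mul_right_cancel₀ (irr_degree_ne_zero θ.1.2) (hv (y := 1) hc not_dvd_one')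
  · obtain ⟨ξ, θ, hξ, hθ, hφ⟩ := exists_decomp (star_of_card hP) φ.2
    exact ⟨(⟨ξ, hξ⟩, ⟨θ, hθ⟩), Subtype.ext hφ.symm⟩

/-- The dual group separates points. -/
theorem sum_lam_eq_zero (hP : Nat.card (P : Subgroup G) = p) {x : (P : Subgroup G)} (hx : x ≠ 1) :
    ∑ ξ : Lam P, (ξ.1 (inC hP x) : ℂ) = 0 := by
  letI : CommGroup (P : Subgroup G) := { (inferInstance : Group (P : Subgroup G)) with
    mul_comm := fun a b => Subtype.ext
      (Subgroup.mem_centralizer_iff.1 (le_C (star_of_card hP) b.2) a a.2) }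
  haveI : NeZero (Monoid.exponent (P : Subgroup G)) := ⟨Monoid.exponent_ne_zero_of_finite⟩
  haveI : NeZero ((Monoid.exponent (P : Subgroup G) : ℕ) : ℂ) := NeZero.charZero
  obtain ⟨lam, hlam⟩ := CommGroup.exists_apply_ne_one_of_hasEnoughRootsOfUnity (P : Subgroup G) ℂ hx
  obtain ⟨ξ₀, hξ₀, hval⟩ := (exists_extension (star_of_card hP)).1 lam
  let shift : Lam P ≃ Lam P :=
    { toFun := fun ξ => ⟨ξ₀ * ξ.1, fun c hc => by rw [MonoidHom.mul_apply, hξ₀ c hc, ξ.2 c hc, one_mul]⟩
      invFun := fun ξ => ⟨ξ₀⁻¹ * ξ.1, fun c hc => by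
        rw [MonoidHom.mul_apply, MonoidHom.inv_apply, hξ₀ c hc, ξ.2 c hc, inv_one, one_mul]⟩
      left_inv := fun ξ => Subtype.ext (MonoidHom.ext fun c => by simp)
      right_inv := fun ξ => Subtype.ext (MonoidHom.ext fun c => by simp) }
  set s := ∑ ξ : Lam P, (ξ.1 (inC hP x) : ℂ) with hs
  have e : s = (ξ₀ (inC hP x) : ℂ) * s := by
    rw [hs, Finset.mul_sum]
    refine (Fintype.sum_equiv shift _ _ fun ξ => ?_).symm
    show _ = (((ξ₀ * ξ.1) (inC hP x) : ℂˣ) : ℂ)
    rw [MonoidHom.mul_apply, Units.val_mul]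
  by_contra h0
  exact hlam (by rw [← hval x]; exact Units.ext (mul_eq_right₀ h0 |>.1 e.symm))

/-- A function whose transform vanishes off the identity is constant. -/
theorem eq_of_transform (hP : Nat.card (P : Subgroup G) = p) (f : Lam P → ℂ)
    (h : ∀ x : (P : Subgroup G), x ≠ 1 → ∑ ξ : Lam P, f ξ * (ξ.1 (inC hP x) : ℂ) = 0)
    (η : Lam P) : (p : ℂ) * f η = ∑ ξ : Lam P, f ξ := by
  classical
  haveI := Fintype.ofFinite (P : Subgroup G)
  have horth : ∀ ξ : Lam P, ∑ x : (P : Subgroup G),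
      ((η.1 (inC hP x))⁻¹ : ℂ) * (ξ.1 (inC hP x) : ℂ) = if ξ = η then (p : ℂ) else 0 := by
    intro ξ
    let g : (P : Subgroup G) →* ℂ :=
      ((Units.coeHom ℂ).comp (η.1⁻¹ * ξ.1)).comp (Subgroup.inclusion (le_C (star_of_card hP)))
    have hg : ∀ x, g x = ((η.1 (inC hP x))⁻¹ : ℂ) * (ξ.1 (inC hP x) : ℂ) := fun x => by
      show (((η.1⁻¹ * ξ.1) (inC hP x) : ℂˣ) : ℂ) = _
      simp
    split_ifs with he
    · subst he
      simp [← hP, Nat.card_eq_fintype_card]
    · rw [Finset.sum_congr rfl fun x _ => (hg x).symm]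
      refine sum_hom_units_eq_zero g fun h1 => he (Subtype.ext (eq_of_eq_on ξ.2 η.2 fun c hc => ?_))
      have := DFunLike.congr_fun h1 ⟨(c : G), hc⟩
      rw [hg] at this
      refine Units.ext ?_
      simp only [inC, MonoidHom.one_apply] at this
      exact ((inv_mul_eq_one₀ (Units.ne_zero _)).1 this).symm
  have e : ∑ x : (P : Subgroup G), ((η.1 (inC hP x))⁻¹ : ℂ) *
      ∑ ξ : Lam P, f ξ * (ξ.1 (inC hP x) : ℂ) = (p : ℂ) * f η := by
    simp only [Finset.mul_sum]
    rw [Finset.sum_comm]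
    simp only [mul_left_comm _ (f _), ← Finset.mul_sum, horth, mul_ite, mul_zero,
      Finset.sum_ite_eq', Finset.mem_univ, if_true]
    exact mul_comm _ _
  rw [← e, Finset.sum_eq_single (1 : (P : Subgroup G)) (fun x _ hx => by rw [h x hx, mul_zero])
    (by simp)]
  rw [show inC hP (1 : (P : Subgroup G)) = 1 from rfl]
  simp

/-- Sums of functions of the regular part. -/
theorem sum_eq_card_mul (hP : Nat.card (P : Subgroup G) = p) [Fintype (C P)] (f : C P → ℂ)
    (hf : ∀ x y : C P, (x : G) ∈ (P : Subgroup G) → ¬ p ∣ orderOf y → f (x * y) = f y) :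
    ∑ c, f c = (p : ℂ) * ∑ y : C P, if p ∣ orderOf y then 0 else f y := by
  classical
  haveI := Fintype.ofFinite (P : Subgroup G)
  have hcent : ∀ (x : (P : Subgroup G)) (y : C P), Commute (inC hP x) y := fun x y =>
    Subtype.ext (Subgroup.mem_centralizer_iff.1 y.2 x x.2)
  have hpe : ∀ x : (P : Subgroup G), Block.IsPElem p (inC hP x) := fun x => by
    obtain ⟨k, hk⟩ := Block.isPElem_of_mem P.2 x.2
    exact ⟨k, by rw [← hk]; exact (Subgroup.orderOf_coe _).symm⟩
  let F : ↥(P : Subgroup G) × {y : C P // ¬ p ∣ orderOf y} → C P := fun q => inC hP q.1 * q.2.1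
  have hF : Function.Bijective F := by
    refine ⟨fun q q' h => ?_, fun c => ?_⟩
    · have h1 : IsPPart p (F q) (inC hP q.1) := ⟨_, rfl, hcent _ _, hpe _, q.2.2⟩
      have h2 : IsPPart p (F q) (inC hP q'.1) := ⟨_, h.symm, hcent _ _, hpe _, q'.2.2⟩
      have e := Block.IsPPart.unique h1 h2
      have e1 : q.1 = q'.1 := Subtype.ext (congrArg (fun c : C P => (c : G)) e)
      refine Prod.ext e1 (Subtype.ext ?_)
      have h' : inC hP q.1 * q.2.1 = inC hP q'.1 * q'.2.1 := h
      rw [← e1] at h'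
      exact mul_left_cancel h'
    · obtain ⟨x, y, hxy, -, hx, hy⟩ := exists_parts c
      exact ⟨(⟨x, hx⟩, ⟨y, hy⟩), hxy⟩
  rw [← Fintype.sum_bijective F hF _ f (fun _ => rfl), Fintype.sum_prod_type]
  rw [Finset.sum_congr rfl fun x _ => Finset.sum_congr rfl (g := fun (y : {y : C P // ¬ p ∣ orderOf y}) => f y.1) fun y _ =>
    (show f (F (x, y)) = f y.1 from hf (inC hP x) y.1 x.2 y.2)]
  rw [Finset.sum_const, Finset.card_univ, ← Nat.card_eq_fintype_card, hP, nsmul_eq_mul]
  congr 1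
  rw [← Finset.sum_subtype (Finset.univ.filter fun y : C P => ¬ p ∣ orderOf y) (by simp) f,
    Finset.sum_filter]
  exact Finset.sum_congr rfl fun y _ => by split_ifs <;> rfl

variable {M : Ideal AlgInt} [M.IsPrime]

theorem regInner_triv (hP : Nat.card (P : Subgroup G) = p) [Fintype (C P)] (θ θ' : Th P) :
    Block.regInner p (θ'.1 : C P → ℂ) (θ.1 : C P → ℂ) =
      (p : ℂ)⁻¹ * classInner (θ'.1 : C P → ℂ) (θ.1 : C P → ℂ) := by
  have h := sum_eq_card_mul hP (fun c => (θ'.1 : C P → ℂ) c * conj ((θ.1 : C P → ℂ) c))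
    fun x y hx hy => by rw [theta_mul θ'.2 hx, theta_mul θ.2 hx]
  simp only [Block.regInner, classInner]
  have hp0 : (p : ℂ) ≠ 0 := Nat.cast_ne_zero.2 (Fact.out : p.Prime).ne_zero
  rw [h, ← mul_assoc (p : ℂ)⁻¹, mul_comm (p : ℂ)⁻¹, mul_assoc, inv_mul_cancel_left₀ hp0]
  congr 1
  exact Finset.sum_congr rfl fun y _ => by split_ifs <;> simp

theorem centralChar_phi (hM : IsPModular p M) (hP : Nat.card (P : Subgroup G) = p) (ξ : Lam P)
    (θ : Th P) : SameBlock M (θ.1 : C P → ℂ) (phi ξ θ : C P → ℂ) := by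
  refine Block.sameBlock_iff.2 fun c => ?_
  have hξp : ((ξ.1 c : ℂˣ) : ℂ) ^ (p ^ 1) = 1 := by
    obtain ⟨x, y, rfl, -, hx, hy⟩ := exists_parts c
    rw [map_mul, ξ.2 y hy, mul_one, ← Units.val_pow_eq_pow_val, ← map_pow]
    have : x ^ p ^ 1 = 1 := by
      refine Subtype.ext ?_
      have h := congrArg Subtype.val (pow_card_eq_one' (G := (P : Subgroup G)) (x := ⟨x, hx⟩))
      rw [hP] at h
      rw [SubmonoidClass.coe_pow, pow_one]
      exact h
    rw [this, map_one, Units.val_one]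
  have hmem : ((ξ.1 c : ℂˣ) : ℂ) ∈ Block.locRing M := Block.integral_mem_locRing
    (IsIntegral.of_pow (pow_pos (Fact.out : p.Prime).pos 1) (by rw [hξp]; exact isIntegral_one))
  have e : centralChar (phi ξ θ : C P → ℂ) c =
      ((ξ.1 c : ℂˣ) : ℂ) * centralChar (θ.1 : C P → ℂ) c := by
    simp only [centralChar, phi, Pi.mul_apply, lin, map_one, Units.val_one, one_mul]
    ring
  rw [e, Block.redC_mul hmem (Block.centralChar_mem_locRing θ.1 c),
    Block.redC_of_mem hmem,
    Block.red_rootOfUnity_eq_one hM (z := ⟨_, hmem⟩) hξp, one_mul]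

theorem not_dvd_index_of_card (hP : Nat.card (P : Subgroup G) = p) :
    ∃ q : ℕ, Nat.card (C P) = p * q ∧ ¬ p ∣ q := by
  refine ⟨((P : Subgroup G).subgroupOf (C P)).index, ?_, (P.subtype (le_C (star_of_card hP))).not_dvd_index⟩
  have h := ((P : Subgroup G).subgroupOf (C P)).card_mul_index
  rw [Nat.card_congr (Subgroup.subgroupOfEquivOfLe (le_C (star_of_card hP))).toEquiv, hP] at h
  exact h.symm

/-- The characters in the block of a trivial one. -/
theorem phi_mem_block_iff (hM : IsPModular p M) (hP : Nat.card (P : Subgroup G) = p) (ξ : Lam P)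
    (θ θ' : Th P) : phi ξ θ' ∈ blockOf M (θ.1 : C P → ℂ) ↔ θ' = θ := by
  classical
  refine ⟨fun h => ?_, fun h => h ▸ centralChar_phi hM hP ξ θ⟩
  have hs : SameBlock M (θ.1 : C P → ℂ) (θ'.1 : C P → ℂ) :=
    Block.sameBlock_trans h (Block.sameBlock_symm (centralChar_phi hM hP ξ θ'))
  by_contra hne
  haveI := Fintype.ofFinite (C P)
  haveI := Block.resField_charP (M := M) hM
  obtain ⟨q, hq, hpq⟩ := not_dvd_index_of_card hP
  have hval : ∀ ν : Th P, Block.omega (ν.1 : C P → ℂ) (Block.regElem p (θ.1 : C P → ℂ)) =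
      if ν = θ then (q : ℂ) / (ν.1 : C P → ℂ) 1 else 0 := by
    intro ν
    have hp0 : (p : ℂ) ≠ 0 := Nat.cast_ne_zero.2 (Fact.out : p.Prime).ne_zero
    rw [Block.omega_regElem, regInner_triv hP, hq, Nat.cast_mul]
    split_ifs with hν
    · subst hν
      rw [classInner_irr_self ν.1.2, mul_one]
      field_simp
    · rw [classInner_irr_ne ν.1.2 θ.1.2 fun h => hν (Subtype.ext (Subtype.ext h)), mul_zero,
        mul_zero, zero_div]
  have key := Block.redC_omega_eq_of_sameBlock hs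
    (Block.isClassCoeff_regElem (p := p) (isClassFunction_of_isIrr θ.1.2))
    (Block.intR_regElem θ.1)
  rw [hval, hval, if_pos rfl, if_neg hne, Block.redC_zero] at key
  have hz : (q : ℂ) / (θ.1 : C P → ℂ) 1 ∈ Block.locRing M := by
    have := Block.omega_mem_locRing (M := M) θ.1
      (Block.isClassCoeff_regElem (p := p) (isClassFunction_of_isIrr θ.1.2))
      (Block.intR_regElem θ.1)
    rwa [hval, if_pos rfl] at this
  have hd := irr_degree_ne_zero θ.1.2
  have h2 := congrArg (· * Block.redC M ((θ.1 : C P → ℂ) 1)) key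
  simp only [zero_mul] at h2
  rw [← Block.redC_mul hz (Block.irr_mem_locRing θ.1 1), div_mul_cancel₀ _ hd, Block.redC_natCast,
    CharP.cast_eq_zero_iff (Block.ResField M) p] at h2
  exact hpq h2

/-- Multiplicities on the centraliser. -/
noncomputable def mult (χ : IrrCharacter G) (φ : IrrCharacter (C P)) : ℕ :=
  haveI := Fintype.ofFinite (C P)
  Classical.choose (classInner_natCast (isCharacter_restrict (isCharacter_of_isIrr χ.2) (C P))
    (isCharacter_of_isIrr φ.2))

theorem mult_spec [Fintype (C P)] (χ : IrrCharacter G) (φ : IrrCharacter (C P)) :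
    classInner (fun c : C P => (χ : G → ℂ) c) (φ : C P → ℂ) = (mult χ φ : ℂ) := by
  have := Classical.choose_spec (@classInner_natCast _ _ (Fintype.ofFinite (C P)) _ _
    (isCharacter_restrict (isCharacter_of_isIrr χ.2) (C P)) (isCharacter_of_isIrr φ.2))
  convert this using 2 <;> congr 1

theorem restrict_eq (χ : IrrCharacter G) (c : C P) :
    (χ : G → ℂ) c = ∑ φ : IrrCharacter (C P), (mult χ φ : ℂ) * (φ : C P → ℂ) c := by
  haveI := Fintype.ofFinite (C P)
  have h := congrFun (eq_sum_classInner_smul (isClassFunction_of_isCharacter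
    (isCharacter_restrict (isCharacter_of_isIrr χ.2) (C P)))) c
  simp only [Finset.sum_apply, Pi.smul_apply, smul_eq_mul, mult_spec] at h
  exact h

/-- The component of a character at a trivial character. -/
noncomputable def S (hP : Nat.card (P : Subgroup G) = p) (θ : Th P) (χ : IrrCharacter G)
    (x : (P : Subgroup G)) : ℂ :=
  ∑ ξ : Lam P, (mult χ (phi ξ θ) : ℂ) * (ξ.1 (inC hP x) : ℂ)

theorem apply_eq_sum_S (hP : Nat.card (P : Subgroup G) = p) (χ : IrrCharacter G)
    (x : (P : Subgroup G)) {y : C P} (hy : ¬ p ∣ orderOf y) :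
    (χ : G → ℂ) ((x : G) * (y : G)) = ∑ θ : Th P, S hP θ χ x * (θ.1 : C P → ℂ) y := by
  have h := restrict_eq χ (inC hP x * y)
  rw [← Fintype.sum_bijective _ (phi_bijective hP) _ _ (fun _ => rfl), Fintype.sum_prod_type,
    Finset.sum_comm] at h
  refine h.trans (Finset.sum_congr rfl fun θ _ => ?_)
  rw [S, Finset.sum_mul]
  refine Finset.sum_congr rfl fun ξ _ => ?_
  rw [phi_apply ξ θ (show ((inC hP x : C P) : G) ∈ (P : Subgroup G) from x.2) hy, mul_assoc]

theorem sum_blockCoeff_eq_S (hM : IsPModular p M) (hP : Nat.card (P : Subgroup G) = p)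
    [Fintype (C P)] (θ : Th P) (χ : IrrCharacter G) (x : (P : Subgroup G)) {y : C P}
    (hy : ¬ p ∣ orderOf y) :
    ∑ k : C P, blockCoeff (blockOf M (θ.1 : C P → ℂ)) k *
        (χ : G → ℂ) ((k : G) * ((x : G) * (y : G))) =
      S hP θ χ x * (θ.1 : C P → ℂ) y := by
  classical
  set b := blockOf M (θ.1 : C P → ℂ) with hb
  have e : ∀ k : C P, (χ : G → ℂ) ((k : G) * ((x : G) * (y : G))) =
      ∑ φ : IrrCharacter (C P), (mult χ φ : ℂ) * (φ : C P → ℂ) (k * (inC hP x * y)) := fun k =>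
    Eq.trans (by rfl) (restrict_eq χ (k * (inC hP x * y)))
  simp only [e, Finset.mul_sum]
  rw [Finset.sum_comm]
  have e2 : ∀ φ : IrrCharacter (C P), ∑ k : C P,
      blockCoeff b k * ((mult χ φ : ℂ) * (φ : C P → ℂ) (k * (inC hP x * y))) =
      (mult χ φ : ℂ) * if φ ∈ b then (φ : C P → ℂ) (inC hP x * y) else 0 := by
    intro φ
    rw [← Block.pair_eIdem_mul_single, ← Block.sum_blockCoeff_mul_eq_pair, Finset.mul_sum]
    exact Finset.sum_congr rfl fun k _ => by ring
  rw [Finset.sum_congr rfl fun φ _ => e2 φ, ← Fintype.sum_bijective _ (phi_bijective hP) _ _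
    (fun _ => rfl), Fintype.sum_prod_type, S, Finset.sum_mul]
  refine Finset.sum_congr rfl fun ξ _ => ?_
  simp only [hb, phi_mem_block_iff hM hP, mul_ite, mul_zero, Finset.sum_ite_eq', Finset.mem_univ,
    if_true]
  rw [phi_apply ξ θ (show ((inC hP x : C P) : G) ∈ (P : Subgroup G) from x.2) hy, mul_assoc]

/-- Components at blocks inducing other blocks vanish. -/
theorem S_eq_zero (hM : IsPModular p M) (hP : Nat.card (P : Subgroup G) = p) (θ : Th P)
    {B : Set (IrrCharacter G)} (hind : IsInducedBlock M (C P) (blockOf M (θ.1 : C P → ℂ)) B)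
    {χ : IrrCharacter G} (hχ : χ ∉ B) {x : (P : Subgroup G)} (hx : x ≠ 1) :
    S hP θ χ x = 0 := by
  haveI := Fintype.ofFinite (C P)
  have hx' : (x : G) ≠ 1 := fun h => hx (Subtype.ext h)
  have h := Block.second_main hM hind (u := (x : G)) (s := (1 : G))
    (Block.isPElem_of_mem P.2 x.2) (by rw [orderOf_one]; exact (Fact.out : p.Prime).not_dvd_one)
    (Commute.one_right _) (le_C (star_of_card hP) x.2) (one_mem _)
    (star_of_card hP x x.2 hx').le hχ
  have h2 := sum_blockCoeff_eq_S hM hP θ χ x (y := 1) not_dvd_one'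
  rw [OneMemClass.coe_one] at h2
  rw [h] at h2
  exact (mul_eq_zero.1 h2.symm).resolve_right (irr_degree_ne_zero θ.1.2)

theorem exists_blockPart_ne (hM : IsPModular p M) {H : Subgroup G} [Fintype H] {x : G}
    (hH : Subgroup.centralizer ({x} : Set G) = H) (hx : Block.IsPElem p x)
    {b : Set (IrrCharacter H)} {B : Set (IrrCharacter G)} (hind : IsInducedBlock M H b B)
    {χ : IrrCharacter G} (hχ : χ ∈ B) (h0 : blockHeight p B (χ : G → ℂ) = 0) :
    ∃ y : H, ¬ p ∣ orderOf y ∧ ∑ k : H, blockCoeff b k * (χ : G → ℂ) (x * ((k : G) * (y : G))) ≠ 0 := by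
  subst hH
  obtain ⟨y, hy, hne⟩ := Cfsg.Agent.S4428.result p M hM B hind.2.1 χ hχ h0 x hx b hind
  refine ⟨y, hy, ?_⟩
  rw [Block.blockPart_eq_sum b
    (Block.isClassFunction_translate (isClassFunction_of_isIrr χ.2) x) y] at hne
  simpa using hne

/-- Components at the inducing block do not vanish. -/
theorem S_ne_zero (hM : IsPModular p M) (hP : Nat.card (P : Subgroup G) = p) (θ : Th P)
    {B : Set (IrrCharacter G)} (hind : IsInducedBlock M (C P) (blockOf M (θ.1 : C P → ℂ)) B)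
    {χ : IrrCharacter G} (hχ : χ ∈ B) (h0 : blockHeight p B (χ : G → ℂ) = 0)
    {x : (P : Subgroup G)} (hx : x ≠ 1) : S hP θ χ x ≠ 0 := by
  haveI := Fintype.ofFinite (C P)
  have hx' : (x : G) ≠ 1 := fun h => hx (Subtype.ext h)
  obtain ⟨y, hy, hne⟩ := exists_blockPart_ne hM (star_of_card hP x x.2 hx')
    (Block.isPElem_of_mem P.2 x.2) hind hχ h0
  intro h
  refine hne ?_
  have h2 := sum_blockCoeff_eq_S hM hP θ χ x hy
  rw [h, zero_mul] at h2
  refine Eq.trans (Finset.sum_congr rfl fun k _ => ?_) h2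
  congr 2
  rw [← mul_assoc, ← mul_assoc, Subgroup.mem_centralizer_iff.1 k.2 x x.2]

/-- A block containing a character of degree prime to `p` has height zero throughout. -/
theorem height_zero (hM : IsPModular p M) (hP : Nat.card (P : Subgroup G) = p)
    {B : Set (IrrCharacter G)} (hB : IsPBlock M B) {ψ : IrrCharacter G} (hψ : ψ ∈ B)
    (hdeg : ¬ p ∣ charDegree (ψ : G → ℂ)) {χ : IrrCharacter G} (hχ : χ ∈ B) :
    ¬ p ∣ charDegree (χ : G → ℂ) ∧ blockHeight p B (χ : G → ℂ) = 0 := by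
  classical
  have hp : p.Prime := Fact.out
  have hz : blockHeight p B (ψ : G → ℂ) = 0 := by
    rw [blockHeight, Nat.factorization_eq_zero_of_not_dvd hdeg, Nat.zero_sub]
  have hχd : ¬ p ∣ charDegree (χ : G → ℂ) := by
    intro hd
    have hne : ψ ≠ χ := fun h => hdeg (h ▸ hd)
    refine Block.redC_omega_regElem_ne_zero hM hB hψ hχ hz ?_
    rw [Block.omega_regElem]
    have hpp : (Nat.card G).factorization p = 1 := by
      have h := P.card_eq_multiplicity
      rw [hP] at h
      exact (Nat.pow_eq_self_iff hp.one_lt).1 h.symm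
    have e : (fun g => if p ∣ orderOf g then 0 else (χ : G → ℂ) g) = (χ : G → ℂ) := funext fun g => by
      split_ifs with hg
      · exact (apply_eq_zero_of_defect_zero χ.2 hp (by rw [hpp, pow_one]; exact hd) hg).symm
      · rfl
    rw [Block.regInner, e, classInner_irr_ne χ.2 ψ.2 fun h => hne (Subtype.ext h.symm), mul_zero,
      zero_div, Block.redC_zero]
  refine ⟨hχd, ?_⟩
  rw [blockHeight, Nat.factorization_eq_zero_of_not_dvd hχd, Nat.zero_sub]

end Cfsg.Agent.Lib.DefectOne
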