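import Cfsg.Agent.Lib.DefectOne.Family
import Cfsg.Prelude.Def_BlockRank
import Cfsg.Agent.Lib.Block.Count

/-!
# The structure of a block of full defect one
-/

set_option autoImplicit false
set_option linter.unusedSectionVars false

namespace Cfsg.Agent.Lib.DefectOne

open Cfsg Cfsg.Agent.Lib Cfsg.Agent.Lib.Char Cfsg.Agent.Lib.Char.UC
open scoped ComplexConjugate

universe u

variable {p : ℕ} [Fact p.Prime] {G : Type u} [Group G] [Fintype G] {P : Sylow p G}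
  {M : Ideal AlgInt} [M.IsPrime]

/-- The sum of the multiplicities over a trivial character. -/
noncomputable def R (θ : Th P) (χ : IrrCharacter G) : ℤ :=
  ∑ ξ : Lam P, (mult χ (phi ξ θ) : ℤ)

theorem redC_S (hM : IsPModular p M) (hP : Nat.card (P : Subgroup G) = p) (θ : Th P)
    (χ : IrrCharacter G) (x : (P : Subgroup G)) :
    S hP θ χ x ∈ Block.locRing M ∧
      Block.redC M (S hP θ χ x) = ((R θ χ : ℤ) : Block.ResField M) := by
  have hξ : ∀ ξ : Lam P, (ξ.1 (inC hP x) : ℂ) ^ (p ^ 1) = 1 := by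
    intro ξ
    rw [pow_one, ← Units.val_pow_eq_pow_val, ← map_pow]
    have : inC hP x ^ p = 1 := by
      refine Subtype.ext ?_
      have h := congrArg Subtype.val (pow_card_eq_one' (G := (P : Subgroup G)) (x := x))
      rw [hP] at h
      exact h
    rw [this, map_one, Units.val_one]
  have hmem : ∀ ξ : Lam P, (ξ.1 (inC hP x) : ℂ) ∈ Block.locRing M := fun ξ =>
    Block.integral_mem_locRing (IsIntegral.of_pow (pow_pos (Fact.out : p.Prime).pos 1)
      (by rw [hξ]; exact isIntegral_one))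
  refine ⟨sum_mem fun ξ _ => mul_mem (natCast_mem _ _) (hmem ξ), ?_⟩
  rw [S, Block.redC_sum _ fun ξ _ => mul_mem (natCast_mem _ _) (hmem ξ), R, Int.cast_sum]
  refine Finset.sum_congr rfl fun ξ _ => ?_
  rw [Block.redC_mul (natCast_mem _ _) (hmem ξ), Block.redC_natCast,
    Block.redC_of_mem (hmem ξ), Block.red_rootOfUnity_eq_one hM (z := ⟨_, hmem ξ⟩) (hξ ξ), mul_one]
  simp

/-- The sum of the multiplicities only sees the regular values. -/
theorem R_eq (hP : Nat.card (P : Subgroup G) = p) [Fintype (C P)] (θ : Th P) (χ : IrrCharacter G) :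
    ((R θ χ : ℤ) : ℂ) = (Nat.card (C P) : ℂ)⁻¹ * ((p : ℂ) *
      ∑ y : C P, if p ∣ orderOf y then 0 else (χ : G → ℂ) y * conj ((θ.1 : C P → ℂ) y)) := by
  classical
  have hp0 : (p : ℂ) ≠ 0 := Nat.cast_ne_zero.2 (Fact.out : p.Prime).ne_zero
  have hval : ∀ c : C P, ∑ ξ : Lam P, (phi ξ θ : C P → ℂ) c =
      if p ∣ orderOf c then 0 else (p : ℂ) * (θ.1 : C P → ℂ) c := by
    intro c
    obtain ⟨x, y, rfl, hxy, hx, hy⟩ := exists_parts c
    simp only [phi_apply _ θ hx hy, ← Finset.sum_mul]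
    by_cases hx1 : x = 1
    · subst hx1
      rw [one_mul, if_neg hy]
      simp [card_Lam hP]
    · have hxP : (⟨(x : G), hx⟩ : (P : Subgroup G)) ≠ 1 := fun h =>
        hx1 (Subtype.ext (congrArg Subtype.val h : ((x : C P) : G) = 1))
      have h0 : ∑ ξ : Lam P, (ξ.1 x : ℂ) = 0 := sum_lam_eq_zero hP hxP
      rw [h0, zero_mul, if_pos ?_]
      obtain ⟨k, hk⟩ := Block.isPElem_of_mem P.2 hx
      exact Block.singular_mul ⟨k, by rw [← hk, Subgroup.orderOf_coe]⟩ hx1 hy hxy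
  calc ((R θ χ : ℤ) : ℂ) = conj (classInner (fun c => ∑ ξ : Lam P, (phi ξ θ : C P → ℂ) c)
        (fun c : C P => (χ : G → ℂ) c)) := by
        rw [← classInner_conj_symm, show (fun c : C P => ∑ ξ : Lam P, (phi ξ θ : C P → ℂ) c) =
          ∑ ξ : Lam P, (phi ξ θ : C P → ℂ) from funext fun c => (Finset.sum_apply c _ _).symm,
          classInner_sum_right]
        simp only [mult_spec, R]
        push_cast
        rfl
    _ = _ := by
      simp only [hval, classInner, map_mul, map_inv₀, map_natCast, map_sum]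
      congr 1
      rw [Finset.mul_sum]
      refine Finset.sum_congr rfl fun y _ => ?_
      split_ifs <;> simp [mul_comm, mul_left_comm]

/-- The structure of the block. -/
theorem exists_structure_full (hM : IsPModular p M) (hP : Nat.card (P : Subgroup G) = p) (θ : Th P)
    {B : Set (IrrCharacter G)} (hB : IsPBlock M B)
    (hind : IsInducedBlock M (C P) (blockOf M (θ.1 : C P → ℂ)) B)
    (hdeg : ∃ ψ ∈ B, ¬ p ∣ charDegree (ψ : G → ℂ))
    (hrank : (C P).relIndex (Tgrp θ) ≤ blockRank p B) :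
    (C P).relIndex (Tgrp θ) ∣ p - 1 ∧
    ∃ (Z Y : Finset (IrrCharacter G)) (sgn : IrrCharacter G → ℤ) (ε : ℤ),
      B = (Z : Set (IrrCharacter G)) ∪ (Y : Set (IrrCharacter G)) ∧ Disjoint Z Y ∧
      Z.card = (C P).relIndex (Tgrp θ) ∧ Y.card = (p - 1) / (C P).relIndex (Tgrp θ) ∧
      (ε = 1 ∨ ε = -1) ∧
      (∀ χ ∈ Z, (sgn χ = 1 ∨ sgn χ = -1) ∧ ∀ x : (P : Subgroup G), x ≠ 1 →
        S hP θ χ x = (sgn χ : ℂ)) ∧
      (∀ ψ ∈ Y, ((R θ ψ : ℤ) : Block.ResField M) =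
        ((ε * ((C P).relIndex (Tgrp θ) : ℕ) : ℤ) : Block.ResField M)) ∧
      (∀ ψ ∈ Y, ∀ ψ' ∈ Y, ∀ g : G, ¬ p ∣ orderOf g → (ψ : G → ℂ) g = (ψ' : G → ℂ) g) ∧
      (∀ ψ ∈ Y, ∀ g : G, ¬ p ∣ orderOf g →
        (ε : ℂ) * (ψ : G → ℂ) g = ∑ χ ∈ Z, (sgn χ : ℂ) * (χ : G → ℂ) g) ∧
      (2 ≤ Y.card → ∀ O ⊆ Y, O.Nonempty → (∀ ξ ξ' : Lam P, ξ ≠ lamOne → ξ' ≠ lamOne →
        ∑ ψ ∈ O, mult ψ (phi ξ θ) = ∑ ψ ∈ O, mult ψ (phi ξ' θ)) → O = Y) ∧
      (∀ ψ ∈ Y, ∃ s : ℤ, (s = 1 ∨ s = -1) ∧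
        R θ ψ = (p : ℤ) * mult ψ (phi lamOne θ) + s * ((C P).relIndex (Tgrp θ) : ℕ)) := by
  classical
  haveI := Fintype.ofFinite (C P)
  haveI := Block.resField_charP (M := M) hM
  set e := (C P).relIndex (Tgrp θ) with he
  have he0 : 0 < e := Nat.pos_of_ne_zero Subgroup.index_ne_zero_of_finite
  obtain ⟨m, F, cls, ε, μ, i₀, hm, hε, hμ, hF1, hcls, hcoef, hμreg, hgap, hfib⟩ := exists_family hP θ
  have hp2 := (Fact.out : p.Prime).two_le
  refine ⟨Dvd.intro_left m hm, ?_⟩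
  set a : IrrCharacter G → ℤ := fun χ => coefA θ (F i₀) χ with ha
  obtain ⟨ψ₀, hψ₀, hψ₀d⟩ := hdeg
  -- constant multiplicities give the components
  have hSconst : ∀ χ, (∀ i, mult χ (phi (F i) θ) = mult χ (phi (F i₀) θ)) →
      ∀ x : (P : Subgroup G), x ≠ 1 → S hP θ χ x = (a χ : ℂ) := by
    intro χ hc x hx
    have hz := sum_lam_eq_zero hP hx
    rw [← Finset.add_sum_erase _ _ (Finset.mem_univ (lamOne : Lam P))] at hz
    rw [S, ← Finset.add_sum_erase _ _ (Finset.mem_univ (lamOne : Lam P)),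
      Finset.sum_congr rfl (g := fun ξ : Lam P =>
        (mult χ (phi (F i₀) θ) : ℂ) * (ξ.1 (inC hP x) : ℂ)) fun ξ hξ => by
        rw [hcls χ ξ (Finset.ne_of_mem_erase hξ), hc], ← Finset.mul_sum,
      eq_neg_of_add_eq_zero_right hz]
    have h1 : (((lamOne : Lam P).1 (inC hP x) : ℂˣ) : ℂ) = 1 := rfl
    rw [h1, ha]
    simp only [coefA]
    push_cast
    ring
  obtain ⟨x₁, hx₁⟩ : ∃ x : (P : Subgroup G), x ≠ 1 := by
    by_contra hcon
    push Not at hcon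
    haveI : Subsingleton (P : Subgroup G) := ⟨fun a b => by rw [hcon a, hcon b]⟩
    rw [Nat.card_of_subsingleton (1 : (P : Subgroup G))] at hP
    omega
  have hout : ∀ χ, (∀ i, mult χ (phi (F i) θ) = mult χ (phi (F i₀) θ)) → χ ∉ B → a χ = 0 := by
    intro χ hc hχ
    have h := hSconst χ hc x₁ hx₁
    rw [S_eq_zero hM hP θ hind hχ hx₁] at h
    exact_mod_cast h.symm
  have hin : ∀ χ, (∀ i, mult χ (phi (F i) θ) = mult χ (phi (F i₀) θ)) → χ ∈ B → a χ ≠ 0 := by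
    intro χ hc hχ h0
    refine S_ne_zero hM hP θ hind hχ (height_zero hM hP hB hψ₀ hψ₀d hχ).2 hx₁ ?_
    rw [hSconst χ hc x₁ hx₁, h0, Int.cast_zero]
  have hRsum : ∀ χ, R θ χ = (p : ℤ) * mult χ (phi lamOne θ) + (e : ℤ) *
      ∑ i, ((mult χ (phi (F i) θ) : ℤ) - mult χ (phi lamOne θ)) := by
    intro χ
    have h1 : R θ χ = (p : ℤ) * mult χ (phi lamOne θ) +
        ∑ ξ ∈ Finset.univ.filter (fun ξ : Lam P => ξ ≠ lamOne),
          ((mult χ (phi ξ θ) : ℤ) - mult χ (phi lamOne θ)) := by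
      rw [Finset.sum_sub_distrib, Finset.sum_const, card_Lam_ne_one hP, nsmul_eq_mul,
        Finset.filter_ne', R, ← Finset.add_sum_erase _ _ (Finset.mem_univ (lamOne : Lam P)),
        Nat.cast_sub (by omega), Nat.cast_one]
      ring
    rw [h1, ← Finset.sum_fiberwise (Finset.univ.filter fun ξ : Lam P => ξ ≠ lamOne) cls,
      Finset.mul_sum]
    congr 1
    refine Finset.sum_congr rfl fun i _ => ?_
    rw [Finset.sum_congr rfl (g := fun _ => (mult χ (phi (F i) θ) : ℤ) - mult χ (phi lamOne θ))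
      fun ξ hξ => by
        obtain ⟨hξ1, hξ2⟩ := Finset.mem_filter.1 hξ
        rw [hcls χ ξ (Finset.mem_filter.1 hξ1).2, hξ2],
      Finset.sum_const, nsmul_eq_mul, Finset.filter_filter, ← Fintype.card_subtype,
      ← Nat.card_eq_fintype_card, hfib i]
  -- the exceptional characters
  obtain ⟨Y, hYcard, hYB, hYreg, hYsum, hYc, hYfull, hYR⟩ : ∃ Y : Finset (IrrCharacter G), Y.card = m ∧
      (∀ ψ ∈ Y, ψ ∈ B) ∧ (∀ ψ ∈ Y, ∀ ψ' ∈ Y, ∀ g : G, ¬ p ∣ orderOf g →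
        (ψ : G → ℂ) g = (ψ' : G → ℂ) g) ∧ ∑ ψ ∈ Y, a ψ ≠ 0 ∧
      (∀ χ ∉ Y, ∀ i, mult χ (phi (F i) θ) = mult χ (phi (F i₀) θ)) ∧
      (2 ≤ m → ∀ O ⊆ Y, O.Nonempty → (∀ ξ ξ' : Lam P, ξ ≠ lamOne → ξ' ≠ lamOne →
        ∑ ψ ∈ O, mult ψ (phi ξ θ) = ∑ ψ ∈ O, mult ψ (phi ξ' θ)) → O = Y) ∧
      (∀ ψ ∈ Y, (m = 1 ∧ R θ ψ = (p : ℤ) * mult ψ (phi lamOne θ) + (e : ℤ) * (-a ψ)) ∨
        (2 ≤ m ∧ (∀ i, μ i ∈ Y) ∧ R θ ψ = (p : ℤ) * mult ψ (phi lamOne θ) +
          (e : ℤ) * (ε - (m : ℤ) * (a (μ i₀) + ε)))) := by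
    by_cases hm1 : m = 1
    · have hall : ∀ i, i = i₀ := fun i => Fin.ext (by have := i.2; have := i₀.2; omega)
      have hc : ∀ χ i, mult χ (phi (F i) θ) = mult χ (phi (F i₀) θ) := fun χ i => by rw [hall i]
      refine ⟨{ψ₀}, by rw [Finset.card_singleton, hm1], fun ψ hψ => ?_, fun ψ hψ ψ' hψ' g _ => ?_,
        ?_, fun χ _ => hc χ, fun h => absurd h (by omega), fun ψ _ => Or.inl ⟨hm1, ?_⟩⟩
      · rw [Finset.mem_singleton.1 hψ]; exact hψ₀
      · rw [Finset.mem_singleton.1 hψ, Finset.mem_singleton.1 hψ']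
      · rw [Finset.sum_singleton]; exact hin ψ₀ (hc ψ₀) hψ₀
      · rw [hRsum ψ, Finset.sum_congr rfl (g := fun _ => -a ψ) fun i _ => by
          rw [hc ψ i]; simp only [ha, coefA]; ring, Finset.sum_const, Finset.card_univ,
          Fintype.card_fin, hm1, one_nsmul]
    have hm2 : 2 ≤ m := by have := i₀.2; omega
    have hεne : ε ≠ 0 := by rcases hε with rfl | rfl <;> simp
    refine ⟨Finset.univ.image μ, ?_, ?_, ?_, ?_, fun χ hχ i => ?_,
      fun _ O hO hOne hconst => ?_, fun ψ hψ => Or.inr ⟨hm2,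
        fun i => Finset.mem_image.2 ⟨i, Finset.mem_univ _, rfl⟩, ?_⟩⟩
    · rw [Finset.card_image_of_injective _ hμ, Finset.card_univ, Fintype.card_fin]
    · intro ψ hψ
      obtain ⟨j, -, rfl⟩ := Finset.mem_image.1 hψ
      by_contra hj
      have hconst := eq_of_transform hP (fun ξ => (mult (μ j) (phi ξ θ) : ℂ))
        fun x hx => S_eq_zero hM hP θ hind hj hx
      obtain ⟨i, hi⟩ : ∃ i, ¬ ((if μ i = μ j then (1 : ℤ) else 0) =
          (if μ i₀ = μ j then 1 else 0)) := by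
        by_cases hji : j = i₀
        · obtain ⟨i, hi⟩ := Fintype.exists_ne_of_one_lt_card (by rw [Fintype.card_fin]; omega) i₀
          exact ⟨i, by rw [if_neg (fun h => hi ((hμ h).trans hji)), if_pos (by rw [hji])]; simp⟩
        · exact ⟨j, by rw [if_pos rfl, if_neg (fun h => hji (hμ h).symm)]; simp⟩
      refine hi (sub_eq_zero.1 ((mul_eq_zero.1 ?_).resolve_left hεne))
      rw [← hcoef]
      have h1 := hconst (F i)
      rw [← hconst (F i₀)] at h1
      have hp0 : (p : ℂ) ≠ 0 := Nat.cast_ne_zero.2 (Fact.out : p.Prime).ne_zero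
      have h2 : mult (μ j) (phi (F i) θ) = mult (μ j) (phi (F i₀) θ) := by
        exact_mod_cast mul_left_cancel₀ hp0 h1
      rw [h2, sub_self]
    · intro ψ hψ ψ' hψ' g hg
      obtain ⟨i, -, rfl⟩ := Finset.mem_image.1 hψ
      obtain ⟨j, -, rfl⟩ := Finset.mem_image.1 hψ'
      rw [hμreg i g hg, hμreg j g hg]
    · rw [Finset.sum_image hμ.injOn, ← Finset.add_sum_erase _ _ (Finset.mem_univ i₀),
        Finset.sum_congr rfl (g := fun _ => a (μ i₀) + ε) fun i hi => by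
          have h := hgap i (Finset.ne_of_mem_erase hi)
          simp only [ha]
          rcases hε with rfl | rfl <;> omega,
        Finset.sum_const, Finset.card_erase_of_mem (Finset.mem_univ i₀), Finset.card_univ,
        Fintype.card_fin, nsmul_eq_mul]
      intro h
      have h' : (m : ℤ) * (a (μ i₀) + ε) = ε := by
        rw [Nat.cast_sub (by omega), Nat.cast_one] at h
        linear_combination h
      have hdiv : (m : ℤ) ∣ ε := ⟨_, h'.symm⟩
      have := Int.le_of_dvd (by norm_num) (show (m : ℤ) ∣ 1 by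
        rcases hε with rfl | rfl
        · exact hdiv
        · exact (dvd_neg.1 hdiv))
      omega
    · have h := hcoef χ i
      have hne : ∀ j, μ j ≠ χ := fun j h => hχ (Finset.mem_image.2 ⟨j, Finset.mem_univ _, h⟩)
      rw [if_neg (hne i), if_neg (hne i₀), sub_self, mul_zero, sub_eq_zero] at h
      exact_mod_cast h
    · have hmem : ∀ i, μ i ∈ O ↔ μ i₀ ∈ O := by
        intro i
        have h : ∑ ψ ∈ O, ((mult ψ (phi (F i) θ) : ℤ) - mult ψ (phi (F i₀) θ)) = 0 := by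
          rw [Finset.sum_sub_distrib, ← Nat.cast_sum, ← Nat.cast_sum,
            hconst (F i) (F i₀) (hF1 i) (hF1 i₀), sub_self]
        simp only [hcoef, ← Finset.mul_sum, Finset.sum_sub_distrib, Finset.sum_ite_eq] at h
        have h' := (mul_eq_zero.1 h).resolve_left hεne
        by_cases hi : μ i ∈ O <;> by_cases h0 : μ i₀ ∈ O <;> simp [hi, h0] at h' ⊢
      obtain ⟨ψ, hψ⟩ := hOne
      obtain ⟨j, -, rfl⟩ := Finset.mem_image.1 (hO hψ)
      refine Finset.Subset.antisymm hO fun χ hχ => ?_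
      obtain ⟨i, -, rfl⟩ := Finset.mem_image.1 hχ
      exact (hmem i).2 ((hmem j).1 hψ)
    · obtain ⟨j, -, rfl⟩ := Finset.mem_image.1 hψ
      rw [hRsum (μ j), Finset.sum_congr rfl (g := fun i =>
        ε * ((if μ i = μ j then 1 else 0) - (if μ i₀ = μ j then 1 else 0)) - a (μ j)) fun i _ => by
          rw [← hcoef (μ j) i]; simp only [ha, coefA]; ring,
        Finset.sum_sub_distrib, ← Finset.mul_sum, Finset.sum_sub_distrib, Finset.sum_const,
        Finset.sum_const, Finset.card_univ, Fintype.card_fin]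
      simp only [hμ.eq_iff, Finset.sum_ite_eq', Finset.mem_univ, if_true, nsmul_eq_mul]
      by_cases hj : i₀ = j
      · subst hj; rw [if_pos rfl]; ring
      · have h := hgap j (Ne.symm hj)
        rw [if_neg hj]
        have hεε : ε * ε = 1 := by rcases hε with rfl | rfl <;> rfl
        have h' : a (μ j) = a (μ i₀) + ε := by
          simp only [ha]
          linear_combination (ε) * h - (coefA θ (F i₀) (μ j) - coefA θ (F i₀) (μ i₀)) * hεε
        rw [h']; ring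
  set Z : Finset (IrrCharacter G) := Finset.univ.filter fun χ => χ ∈ B ∧ χ ∉ Y with hZ
  have hmemZ : ∀ {χ}, χ ∈ Z ↔ χ ∈ B ∧ χ ∉ Y := fun {χ} => by simp [hZ]
  have hYne : Y.Nonempty := by
    rw [← Finset.card_pos, hYcard]
    exact i₀.pos
  obtain ⟨ψ₁, hψ₁⟩ := hYne
  -- the relation
  have hdisj : Disjoint Z Y := Finset.disjoint_left.2 fun χ h h' => (hmemZ.1 h).2 h'
  have hrest : ∀ χ ∈ (Finset.univ : Finset (IrrCharacter G)), χ ∉ Z ∪ Y → a χ = 0 := by
    intro χ _ hχ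
    rw [Finset.mem_union, hmemZ, not_or] at hχ
    exact hout χ (hYc χ hχ.2) fun h => hχ.1 ⟨h, hχ.2⟩
  have hrel : ∀ g : G, ¬ p ∣ orderOf g →
      ((∑ ψ ∈ Y, a ψ : ℤ) : ℂ) * (ψ₁ : G → ℂ) g = -∑ χ ∈ Z, (a χ : ℂ) * (χ : G → ℂ) g := by
    intro g hg
    have h := sum_coefA_regular θ (F i₀) hg
    rw [← Finset.sum_subset (Finset.subset_univ (Z ∪ Y)) fun χ hu hχ => by
      rw [show coefA θ (F i₀) χ = a χ from rfl, hrest χ hu hχ, Int.cast_zero, zero_mul],
      Finset.sum_union hdisj, Finset.sum_congr rfl (s₁ := Y) (g := fun ψ => (a ψ : ℂ) * (ψ₁ : G → ℂ) g)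
        fun ψ hψ => by rw [hYreg ψ hψ ψ₁ hψ₁ g hg]] at h
    rw [Int.cast_sum, Finset.sum_mul]
    linear_combination h
  -- the rank
  have hZcard : e ≤ Z.card := by
    refine hrank.trans ?_
    have hspan : Submodule.span ℂ ((fun χ : IrrCharacter G => pRegularPart p (χ : G → ℂ)) '' B) ≤
        Submodule.span ℂ ((fun χ : IrrCharacter G => pRegularPart p (χ : G → ℂ)) '' (Z : Set (IrrCharacter G))) := by
      refine Submodule.span_le.2 ?_
      rintro _ ⟨χ, hχ, rfl⟩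
      by_cases hY : χ ∈ Y
      · have hc : ((∑ ψ ∈ Y, a ψ : ℤ) : ℂ) ≠ 0 := Int.cast_ne_zero.2 hYsum
        have e1 : pRegularPart p (χ : G → ℂ) = ∑ ζ ∈ Z,
            (-(a ζ : ℂ) / ((∑ ψ ∈ Y, a ψ : ℤ) : ℂ)) • pRegularPart p (ζ : G → ℂ) := by
          funext g
          simp only [Finset.sum_apply, Pi.smul_apply, smul_eq_mul, Block.pRegularPart_apply]
          split_ifs with hg
          · simp
          · rw [hYreg χ hY ψ₁ hψ₁ g hg]
            simp only [div_mul_eq_mul_div, ← Finset.sum_div, neg_mul, Finset.sum_neg_distrib]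
            rw [← hrel g hg, mul_div_cancel_left₀ _ hc]
        show pRegularPart p (χ : G → ℂ) ∈ _
        rw [e1]
        exact Submodule.sum_mem _ fun ζ hζ =>
          Submodule.smul_mem _ _ (Submodule.subset_span ⟨ζ, hζ, rfl⟩)
      · exact Submodule.subset_span ⟨χ, Finset.mem_coe.2 (hmemZ.2 ⟨hχ, hY⟩), rfl⟩
    rw [blockRank]
    refine (Submodule.finrank_mono hspan).trans ?_
    rw [← Finset.coe_image]
    exact (finrank_span_finset_le_card _).trans Finset.card_image_le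
  -- the norm
  have hnorm : ∑ ψ ∈ Y, a ψ ^ 2 + ∑ χ ∈ Z, a χ ^ 2 = (e : ℤ) + 1 := by
    rw [← sum_coefA_sq hP θ (hF1 i₀), add_comm, ← Finset.sum_union hdisj]
    exact Finset.sum_subset (Finset.subset_univ _) fun χ hu hχ => by
      rw [hrest χ hu hχ]; norm_num
  have hZne : ∀ χ ∈ Z, a χ ≠ 0 := fun χ hχ => hin χ (hYc χ (hmemZ.1 hχ).2) (hmemZ.1 hχ).1
  have hsq : ∀ z : ℤ, z ≠ 0 → 1 ≤ z ^ 2 := fun z hz => by
    have : 0 < z ^ 2 := by positivity
    omega
  have hZsum : (Z.card : ℤ) ≤ ∑ χ ∈ Z, a χ ^ 2 := by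
    have := Finset.card_nsmul_le_sum Z (fun χ => a χ ^ 2) 1 fun χ hχ => hsq _ (hZne χ hχ)
    simpa using this
  obtain ⟨ψ₂, hψ₂, hψ₂a⟩ : ∃ ψ ∈ Y, a ψ ≠ 0 := Finset.exists_ne_zero_of_sum_ne_zero hYsum
  have hY2 : a ψ₂ ^ 2 ≤ ∑ ψ ∈ Y, a ψ ^ 2 :=
    Finset.single_le_sum (f := fun ψ => a ψ ^ 2) (fun _ _ => sq_nonneg _) hψ₂
  have hec : (e : ℤ) ≤ Z.card := by exact_mod_cast hZcard
  have h2 := hsq _ hψ₂a
  have hZeq : Z.card = e := by omega
  have hδ : ∑ ψ ∈ Y, a ψ = a ψ₂ ∧ (a ψ₂ = 1 ∨ a ψ₂ = -1) := by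
    refine ⟨Finset.sum_eq_single ψ₂ (fun ψ hψ hne => ?_) (fun h => absurd hψ₂ h), ?_⟩
    · by_contra h0
      have h3 : a ψ₂ ^ 2 + a ψ ^ 2 ≤ ∑ ψ ∈ Y, a ψ ^ 2 := by
        rw [← Finset.sum_pair (f := fun ψ => a ψ ^ 2) (Ne.symm hne)]
        exact Finset.sum_le_sum_of_subset_of_nonneg
          (Finset.insert_subset hψ₂ (Finset.singleton_subset_iff.2 hψ)) fun _ _ _ => sq_nonneg _
      have := hsq _ h0
      omega
    · have : a ψ₂ ^ 2 = 1 := by omega
      exact sq_eq_one_iff.1 this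
  have hZone : ∀ χ ∈ Z, a χ = 1 ∨ a χ = -1 := by
    intro χ hχ
    refine sq_eq_one_iff.1 (le_antisymm ?_ (hsq _ (hZne χ hχ)))
    have h4 := Finset.add_sum_erase Z (fun χ => a χ ^ 2) hχ
    have h5 := Finset.card_nsmul_le_sum (Z.erase χ) (fun χ => a χ ^ 2) 1
      fun ζ hζ => hsq _ (hZne ζ (Finset.mem_of_mem_erase hζ))
    rw [Finset.card_erase_of_mem hχ, hZeq] at h5
    simp only [nsmul_eq_mul, mul_one] at h5
    rw [Nat.cast_sub (by omega), Nat.cast_one] at h5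
    linarith
  refine ⟨Z, Y, a, -a ψ₂, ?_, hdisj, hZeq, ?_, by rcases hδ.2 with h | h <;> omega,
    fun χ hχ => ⟨hZone χ hχ, fun x hx => hSconst χ (hYc χ (hmemZ.1 hχ).2) x hx⟩, fun ψ hψ => ?_,
    hYreg, fun ψ hψ g hg => ?_, fun h => hYfull (hYcard ▸ h), fun ψ hψ => ?_⟩
  · ext χ
    rw [Set.mem_union, Finset.mem_coe, Finset.mem_coe, hmemZ]
    by_cases hY : χ ∈ Y
    · simp [hY, hYB χ hY]
    · simp [hY]
  · rw [hYcard, ← hm, Nat.mul_div_cancel _ he0]
  · -- the congruence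
    have hRrel : a ψ₂ * R θ ψ = -∑ χ ∈ Z, a χ * R θ χ := by
      rw [← Int.cast_inj (α := ℂ)]
      push_cast
      simp only [R_eq hP θ, Finset.mul_sum]
      rw [Finset.sum_comm, ← Finset.sum_neg_distrib]
      refine Finset.sum_congr rfl fun y _ => ?_
      split_ifs with hy
      · simp
      · have h := hrel (y : G) (by rwa [Subgroup.orderOf_coe])
        rw [hδ.1, ← hYreg ψ hψ ψ₁ hψ₁ (y : G) (by rwa [Subgroup.orderOf_coe])] at h
        calc (a ψ₂ : ℂ) * ((Nat.card (C P) : ℂ)⁻¹ * ((p : ℂ) *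
              ((ψ : G → ℂ) y * conj ((θ.1 : C P → ℂ) y))))
            = ((Nat.card (C P) : ℂ)⁻¹ * (p : ℂ) * conj ((θ.1 : C P → ℂ) y)) *
              ((a ψ₂ : ℂ) * (ψ : G → ℂ) y) := by ring
          _ = _ := by
            rw [h, mul_neg, Finset.mul_sum]
            congr 1
            exact Finset.sum_congr rfl fun χ _ => by ring
    have hRZ : ∀ χ ∈ Z, ((R θ χ : ℤ) : Block.ResField M) = ((a χ : ℤ) : Block.ResField M) := by
      intro χ hχ
      rw [← (redC_S hM hP θ χ x₁).2, hSconst χ (hYc χ (hmemZ.1 hχ).2) x₁ hx₁]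
      rcases hZone χ hχ with h | h <;> rw [h]
      · simp [Block.redC_one]
      · rw [show ((-1 : ℤ) : ℂ) = (0 : ℂ) - 1 by norm_num,
          Block.redC_sub (zero_mem _) (one_mem _), Block.redC_zero, Block.redC_one]
        simp
    have h := congrArg (fun z : ℤ => (z : Block.ResField M)) hRrel
    simp only [Int.cast_mul, Int.cast_neg, Int.cast_sum] at h
    rw [Finset.sum_congr rfl fun χ hχ => by
      rw [hRZ χ hχ, ← Int.cast_mul, show a χ * a χ = 1 by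
        rcases hZone χ hχ with h | h <;> rw [h] <;> norm_num, Int.cast_one],
      Finset.sum_const, hZeq, nsmul_one] at h
    rcases hδ.2 with h1 | h1 <;> rw [h1] at h ⊢ <;> push_cast at h ⊢ <;>
      simp only [neg_neg, one_mul, neg_one_mul] at h ⊢
    · exact h
    · exact neg_injective h
  · rw [hYreg ψ hψ ψ₁ hψ₁ g hg, Int.cast_neg, neg_mul, ← hδ.1, hrel g hg, neg_neg]
  · rcases hYR ψ hψ with ⟨h1, hR⟩ | ⟨h1, hall, hR⟩
    · refine ⟨-a ψ, ?_, by rw [hR]; ring⟩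
      have := Finset.card_le_one.1 (by omega : Y.card ≤ 1) ψ hψ ψ₂ hψ₂
      subst this
      rcases hδ.2 with h | h <;> omega
    · refine ⟨ε - (m : ℤ) * (a (μ i₀) + ε), ?_, by rw [hR]; ring⟩
      have hone : ∀ χ ∈ Y, a χ ≠ 0 → χ = ψ₂ := fun χ hχ h0 => by
        by_contra hne
        have h3 : a ψ₂ ^ 2 + a χ ^ 2 ≤ ∑ ψ ∈ Y, a ψ ^ 2 := by
          rw [← Finset.sum_pair (f := fun ψ => a ψ ^ 2) (Ne.symm hne)]
          exact Finset.sum_le_sum_of_subset_of_nonneg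
            (Finset.insert_subset hψ₂ (Finset.singleton_subset_iff.2 hχ)) fun _ _ _ => sq_nonneg _
        have := hsq _ h0
        omega
      have hgap' : ∀ i, i ≠ i₀ → a (μ i) = a (μ i₀) + ε := fun i hi => by
        have h := hgap i hi
        simp only [ha]
        rcases hε with rfl | rfl <;> omega
      by_cases hz : a (μ i₀) + ε = 0
      · rw [hz, mul_zero, sub_zero]; exact hε
      · obtain ⟨i, hi⟩ := Fintype.exists_ne_of_one_lt_card (by rw [Fintype.card_fin]; omega) i₀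
        have hall1 : ∀ j, j ≠ i₀ → μ j = ψ₂ := fun j hj =>
          hone _ (hall j) (by rw [hgap' j hj]; exact hz)
        have hm2 : m = 2 := by
          by_contra hne
          obtain ⟨j, hj, hj'⟩ : ∃ j : Fin m, j ≠ i₀ ∧ j ≠ i := by
            have hc : 0 < ((Finset.univ.erase i₀).erase i).card := by
              rw [Finset.card_erase_of_mem (Finset.mem_erase.2 ⟨hi, Finset.mem_univ _⟩),
                Finset.card_erase_of_mem (Finset.mem_univ _), Finset.card_univ, Fintype.card_fin]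
              omega
            obtain ⟨j, hj⟩ := Finset.card_pos.1 hc
            exact ⟨j, (Finset.mem_erase.1 (Finset.mem_erase.1 hj).2).1, (Finset.mem_erase.1 hj).1⟩
          exact hj' (hμ ((hall1 j hj).trans (hall1 i hi).symm))
        have h0 : a (μ i₀) = 0 := by
          by_contra h0
          exact hi (hμ ((hall1 i hi).trans (hone _ (hall i₀) h0).symm))
        rw [h0, hm2]
        rcases hε with rfl | rfl <;> norm_num

/-- The structure of a block of defect one. -/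
theorem exists_structure (hM : IsPModular p M) (hP : Nat.card (P : Subgroup G) = p) (θ : Th P)
    {B : Set (IrrCharacter G)} (hB : IsPBlock M B)
    (hind : IsInducedBlock M (C P) (blockOf M (θ.1 : C P → ℂ)) B)
    (hdeg : ∃ ψ ∈ B, ¬ p ∣ charDegree (ψ : G → ℂ))
    (hrank : (C P).relIndex (Tgrp θ) ≤ blockRank p B) :
    (C P).relIndex (Tgrp θ) ∣ p - 1 ∧
    ∃ (Z Y : Finset (IrrCharacter G)) (sgn : IrrCharacter G → ℤ) (ε : ℤ),
      B = (Z : Set (IrrCharacter G)) ∪ (Y : Set (IrrCharacter G)) ∧ Disjoint Z Y ∧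
      Z.card = (C P).relIndex (Tgrp θ) ∧ Y.card = (p - 1) / (C P).relIndex (Tgrp θ) ∧
      (ε = 1 ∨ ε = -1) ∧
      (∀ χ ∈ Z, (sgn χ = 1 ∨ sgn χ = -1) ∧ ∀ x : (P : Subgroup G), x ≠ 1 →
        S hP θ χ x = (sgn χ : ℂ)) ∧
      (∀ ψ ∈ Y, ((R θ ψ : ℤ) : Block.ResField M) =
        ((ε * ((C P).relIndex (Tgrp θ) : ℕ) : ℤ) : Block.ResField M)) ∧
      (∀ ψ ∈ Y, ∀ ψ' ∈ Y, ∀ g : G, ¬ p ∣ orderOf g → (ψ : G → ℂ) g = (ψ' : G → ℂ) g) ∧
      (∀ ψ ∈ Y, ∀ g : G, ¬ p ∣ orderOf g →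
        (ε : ℂ) * (ψ : G → ℂ) g = ∑ χ ∈ Z, (sgn χ : ℂ) * (χ : G → ℂ) g) := by
  obtain ⟨hd, Z, Y, sgn, ε, h1, h2, h3, h4, h5, h6, h7, h8, h9, -, -⟩ :=
    exists_structure_full hM hP θ hB hind hdeg hrank
  exact ⟨hd, Z, Y, sgn, ε, h1, h2, h3, h4, h5, h6, h7, h8, h9⟩

end Cfsg.Agent.Lib.DefectOne
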