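import Cfsg.Agent.Lib.DefectOne.Components
import Cfsg.Agent.Lib.Char.UniformMain

/-!
# The exceptional family over a character trivial on the Sylow subgroup
-/

set_option autoImplicit false
set_option linter.unusedSectionVars false

namespace Cfsg.Agent.Lib.DefectOne

open Cfsg Cfsg.Agent.Lib Cfsg.Agent.Lib.Char Cfsg.Agent.Lib.Char.UC
open scoped ComplexConjugate

universe u

variable {p : ℕ} [Fact p.Prime] {G : Type u} [Group G] [Fintype G] {P : Sylow p G}

/-- The stabiliser in the normaliser of a trivial character. -/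
def Tgrp (θ : Th P) : Subgroup G where
  carrier := {g | g ∈ N P ∧ cj P g (θ.1 : C P → ℂ) = (θ.1 : C P → ℂ)}
  one_mem' := ⟨one_mem _, cj_of_mem (one_mem _) (isClassFunction_of_isIrr θ.1.2)⟩
  mul_mem' := fun {a b} ha hb => ⟨mul_mem ha.1 hb.1, by rw [cj_mul ha.1 hb.1, hb.2, ha.2]⟩
  inv_mem' := fun {a} ha => ⟨inv_mem ha.1, by
    conv_lhs => rw [← ha.2]
    rw [← cj_mul (inv_mem ha.1) ha.1, inv_mul_cancel,
      cj_of_mem (one_mem _) (isClassFunction_of_isIrr θ.1.2)]⟩

theorem mem_Tgrp {θ : Th P} {g : G} :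
    g ∈ Tgrp θ ↔ g ∈ N P ∧ cj P g (θ.1 : C P → ℂ) = (θ.1 : C P → ℂ) := Iff.rfl

theorem C_le_Tgrp (θ : Th P) : C P ≤ Tgrp θ := fun _ hg =>
  ⟨C_le_N P hg, cj_of_mem hg (isClassFunction_of_isIrr θ.1.2)⟩

/-- The conjugate of a trivial character. -/
noncomputable def cjTh {g : G} (hg : g ∈ N P) (θ : Th P) : Th P :=
  ⟨⟨cj P g (θ.1 : C P → ℂ), isIrr_cj hg θ.1.2⟩, fun x hx => by
    show cj P g (θ.1 : C P → ℂ) x = cj P g (θ.1 : C P → ℂ) 1
    rw [cj_apply hg, cj_apply hg,
      θ.2 _ (by simpa using (Subgroup.mem_normalizer_iff.1 (inv_mem hg) (x : G)).1 hx)]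
    exact congrArg _ (Subtype.ext (by simp))⟩

/-- The conjugate of a linear character. -/
def cjLam {g : G} (hg : g ∈ N P) (ξ : Lam P) : Lam P :=
  ⟨ξ.1.comp
    { toFun := fun c => ⟨g⁻¹ * (c : G) * g, conj_mem_C hg c.2⟩
      map_one' := Subtype.ext (by simp)
      map_mul' := fun a b => Subtype.ext (by simp [mul_assoc]) }, fun c hc => by
    refine ξ.2 _ fun h => hc ?_
    rw [← Subgroup.orderOf_coe] at h ⊢
    have e : orderOf (g⁻¹ * (c : G) * g) = orderOf (c : G) := by
      simpa using (MulAut.conj g⁻¹).orderOf_eq (c : G)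
    exact e ▸ h⟩

theorem cjLam_apply {g : G} (hg : g ∈ N P) (ξ : Lam P) (c : C P) :
    (cjLam hg ξ).1 c = ξ.1 ⟨g⁻¹ * (c : G) * g, conj_mem_C hg c.2⟩ := rfl

theorem cjLam_ne_one {g : G} (hg : g ∈ N P) {ξ : Lam P} (hξ : ξ ≠ lamOne) :
    cjLam hg ξ ≠ lamOne := by
  intro h
  refine hξ (Subtype.ext (MonoidHom.ext fun c => ?_))
  have := DFunLike.congr_fun (congrArg Subtype.val h)
    ⟨g⁻¹⁻¹ * (c : G) * g⁻¹, conj_mem_C (inv_mem hg) c.2⟩
  rw [cjLam_apply] at this
  refine Eq.trans ?_ this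
  exact congrArg _ (Subtype.ext (by simp [mul_assoc]))

theorem cj_phi {g : G} (hg : g ∈ N P) (ξ : Lam P) (θ : Th P) :
    cj P g (phi ξ θ : C P → ℂ) = (phi (cjLam hg ξ) (cjTh hg θ) : C P → ℂ) := by
  funext c
  rw [cj_apply hg]
  show _ = ((cjLam hg ξ).1 c : ℂ) * cj P g (θ.1 : C P → ℂ) c
  rw [cj_apply hg, cjLam_apply]
  rfl

theorem reg_phi (hP : Nat.card (P : Subgroup G) = p) {ξ : Lam P} (hξ : ξ ≠ lamOne) (θ : Th P) :
    Reg P (phi ξ θ : C P → ℂ) :=
  reg_lin_mul (star_of_card hP) ξ.2 (fun h => hξ (Subtype.ext h)) θ.1 θ.2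

open scoped Classical in
/-- The number of conjugates over the same character. -/
theorem card_conj_class (hP : Nat.card (P : Subgroup G) = p) (θ : Th P) {ξ : Lam P}
    (hξ : ξ ≠ lamOne) :
    (Finset.univ.filter fun η : Lam P =>
      η ≠ lamOne ∧ Conj P (phi η θ : C P → ℂ) (phi ξ θ : C P → ℂ)).card =
      (C P).relIndex (Tgrp θ) := by
  haveI := Fintype.ofFinite (C P)
  have hinj : ∀ {ξ ξ' : Lam P} {θ θ' : Th P}, phi ξ θ = phi ξ' θ' → ξ = ξ' ∧ θ = θ' :=
    fun {a b c d} h => Prod.ext_iff.1 ((phi_bijective hP).1 (a₁ := (a, c)) (a₂ := (b, d)) h)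
  have hconj : ∀ η : Lam P, Conj P (phi η θ : C P → ℂ) (phi ξ θ : C P → ℂ) → η ≠ lamOne := by
    rintro η ⟨g, hg, h⟩
    rw [cj_phi hg] at h
    rw [← (hinj (Subtype.ext h)).1]
    exact cjLam_ne_one hg hξ
  have key : ((Finset.univ.filter fun η : Lam P =>
      η ≠ lamOne ∧ Conj P (phi η θ : C P → ℂ) (phi ξ θ : C P → ℂ)).card : ℂ) *
        (Nat.card (C P) : ℂ) = (Nat.card (Tgrp θ) : ℂ) := by
    have h := Finset.sum_congr (s₁ := (Finset.univ : Finset (Lam P))) rfl
      fun η _ => sum_inner_cj (φ := phi η θ) (reg_phi hP hξ θ)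
    rw [Finset.sum_comm, ← Finset.sum_filter, Finset.sum_const, nsmul_eq_mul] at h
    rw [show (Finset.univ.filter fun η : Lam P =>
      η ≠ lamOne ∧ Conj P (phi η θ : C P → ℂ) (phi ξ θ : C P → ℂ)) =
      Finset.univ.filter fun η : Lam P => Conj P (phi η θ : C P → ℂ) (phi ξ θ : C P → ℂ) from
      Finset.filter_congr fun η _ => ⟨And.right, fun h => ⟨hconj η h, h⟩⟩, ← h,
      Finset.sum_congr rfl (g := fun g => if g ∈ Tgrp θ then (1 : ℂ) else 0) fun g hg => ?_,
      Finset.sum_boole, Nat.card_eq_fintype_card, Fintype.card_subtype]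
    · congr 2
      ext g
      simp only [Finset.mem_filter, Finset.mem_univ, true_and, and_iff_right_iff_imp]
      exact fun h => h.1
    · have hgN := (Finset.mem_filter.1 hg).2
      rw [cj_phi hgN]
      split_ifs with hgT
      · have hθ : cjTh hgN θ = θ := Subtype.ext (Subtype.ext hgT.2)
        rw [hθ, Finset.sum_eq_single (cjLam hgN ξ)]
        · exact classInner_irr_self (phi _ _).2
        · exact fun η _ hne => classInner_irr_ne (phi _ _).2 (phi _ _).2
            fun h => hne (hinj (Subtype.ext h)).1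
        · simp
      · refine Finset.sum_eq_zero fun η _ => classInner_irr_ne (phi _ _).2 (phi _ _).2 fun h =>
          hgT ⟨hgN, ?_⟩
        exact congrArg (fun t : Th P => (t.1 : C P → ℂ)) (hinj (Subtype.ext h)).2.symm
  have key' : (Finset.univ.filter fun η : Lam P =>
      η ≠ lamOne ∧ Conj P (phi η θ : C P → ℂ) (phi ξ θ : C P → ℂ)).card *
        Nat.card (C P) = Nat.card (Tgrp θ) := by exact_mod_cast key
  rw [Subgroup.relIndex]
  have h2 := ((C P).subgroupOf (Tgrp θ)).card_mul_index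
  rw [Nat.card_congr (Subgroup.subgroupOfEquivOfLe (C_le_Tgrp θ)).toEquiv] at h2
  rw [← key', mul_comm] at h2
  exact (Nat.eq_of_mul_eq_mul_right Nat.card_pos h2).symm

/-- The coefficient of the virtual character of norm `e + 1`. -/
noncomputable def coefA (θ : Th P) (ξ : Lam P) (χ : IrrCharacter G) : ℤ :=
  (mult χ (phi lamOne θ) : ℤ) - mult χ (phi ξ θ)

theorem classInner_ind_phi (φ : IrrCharacter (C P)) (χ : IrrCharacter G) :
    classInner (indFun (C P) (φ : C P → ℂ)) (χ : G → ℂ) = (mult χ φ : ℂ) := by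
  haveI := Fintype.ofFinite (C P)
  rw [classInner_indFun (C P) _ (isClassFunction_of_isIrr χ.2), classInner_conj_symm, mult_spec,
    map_natCast]

theorem indFun_regular {α : C P → ℂ} (hα : ∀ c : C P, ¬ p ∣ orderOf c → α c = 0) {g : G}
    (hg : ¬ p ∣ orderOf g) : indFun (C P) α g = 0 := by
  simp only [indFun]
  refine mul_eq_zero_of_right _ (Finset.sum_eq_zero fun x _ => ?_)
  by_cases hm : x⁻¹ * g * x ∈ C P
  · rw [extendByZero_mem _ _ hm, hα _ ?_]
    rw [Subgroup.orderOf_mk]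
    have e : orderOf (x⁻¹ * g * x) = orderOf g := by
      simpa using (MulAut.conj x⁻¹).orderOf_eq g
    rwa [e]
  · exact extendByZero_not_mem _ _ hm

theorem phi_regular (ξ : Lam P) (θ : Th P) {c : C P} (hc : ¬ p ∣ orderOf c) :
    (phi ξ θ : C P → ℂ) c = (θ.1 : C P → ℂ) c := by
  simpa using phi_apply ξ θ (x := 1) (one_mem _) hc

/-- The virtual character of norm `e + 1`. -/
theorem sum_coefA_sq (hP : Nat.card (P : Subgroup G) = p) (θ : Th P) {ξ : Lam P}
    (hξ : ξ ≠ lamOne) :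
    ∑ χ : IrrCharacter G, coefA θ ξ χ ^ 2 = ((C P).relIndex (Tgrp θ) : ℤ) + 1 := by
  classical
  haveI := Fintype.ofFinite (C P)
  set α : C P → ℂ := (phi lamOne θ : C P → ℂ) - (phi ξ θ : C P → ℂ) with hα
  have hvan : ∀ c : C P, ¬ p ∣ orderOf c → α c = 0 := fun c hc => by
    rw [hα, Pi.sub_apply, phi_regular _ _ hc, phi_regular _ _ hc, sub_self]
  have hcoef : ∀ χ : IrrCharacter G,
      classInner (indFun (C P) α) (χ : G → ℂ) = (coefA θ ξ χ : ℂ) := fun χ => by
    rw [hα, indFun_sub, classInner_sub_left, classInner_ind_phi, classInner_ind_phi, coefA]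
    push_cast
    ring
  have hinj : ∀ {ξ ξ' : Lam P} {θ θ' : Th P}, phi ξ θ = phi ξ' θ' → ξ = ξ' ∧ θ = θ' :=
    fun {a b c d} h => Prod.ext_iff.1 ((phi_bijective hP).1 (a₁ := (a, c)) (a₂ := (b, d)) h)
  have hterm : ∀ g ∈ Finset.univ.filter (fun g => g ∈ N P),
      classInner α (cj P g α) = (if g ∈ Tgrp θ then 1 else 0) +
        classInner (phi ξ θ : C P → ℂ) (cj P g (phi ξ θ : C P → ℂ)) := by
    intro g hg
    have hgN := (Finset.mem_filter.1 hg).2
    rw [hα, cj_sub, classInner_sub_left, classInner_sub_right, classInner_sub_right,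
      cj_phi hgN, cj_phi hgN]
    have h1 : cjLam hgN (lamOne : Lam P) = lamOne := Subtype.ext (MonoidHom.ext fun c => rfl)
    rw [h1, classInner_irr_ne (phi lamOne θ).2 (phi (cjLam hgN ξ) _).2
        fun h => cjLam_ne_one hgN hξ (hinj (Subtype.ext h)).1.symm,
      classInner_irr_ne (phi ξ θ).2 (phi lamOne _).2 fun h => hξ (hinj (Subtype.ext h)).1,
      sub_zero, zero_sub, sub_neg_eq_add]
    congr 1
    by_cases hgT : g ∈ Tgrp θ
    · rw [if_pos hgT, show cjTh hgN θ = θ from Subtype.ext (Subtype.ext hgT.2)]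
      exact classInner_irr_self (phi lamOne θ).2
    · rw [if_neg hgT]
      refine classInner_irr_ne (phi lamOne θ).2 (phi lamOne _).2 fun h => hgT ⟨hgN, ?_⟩
      exact congrArg (fun t : Th P => (t.1 : C P → ℂ)) (hinj (Subtype.ext h)).2.symm
  have hnorm : classInner (indFun (C P) α) (indFun (C P) α) =
      ((C P).relIndex (Tgrp θ) : ℂ) + 1 := by
    rw [inner_ind (star_of_card hP) α α hvan, Finset.sum_congr rfl hterm, Finset.sum_add_distrib,
      sum_inner_cj (φ := phi ξ θ) (reg_phi hP hξ θ),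
      if_pos (Conj.refl (isClassFunction_of_isIrr (phi ξ θ).2)), Finset.sum_boole]
    have hcard : ((Finset.univ.filter (fun g => g ∈ N P)).filter fun g => g ∈ Tgrp θ).card =
        (C P).relIndex (Tgrp θ) * Nat.card (C P) := by
      rw [Finset.filter_filter, Finset.filter_congr (q := fun g => g ∈ Tgrp θ)
        (fun g _ => ⟨And.right, fun h => ⟨h.1, h⟩⟩), ← Fintype.card_subtype,
        ← Nat.card_eq_fintype_card, Subgroup.relIndex,
        ← Nat.card_congr (Subgroup.subgroupOfEquivOfLe (C_le_Tgrp θ)).toEquiv, mul_comm,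
        Subgroup.card_mul_index]
    rw [hcard]
    push_cast
    field_simp [card_ne_zero_complex (C P)]
  have hexp := classInner_eq_sum (φ := indFun (C P) α) (isClassFunction_indFun (C P) α)
  rw [hnorm] at hexp
  simp only [hcoef, map_intCast] at hexp
  rw [← Int.cast_inj (α := ℂ)]
  push_cast
  simp only [sq]
  exact hexp.symm

/-- The relation on regular elements. -/
theorem sum_coefA_regular (θ : Th P) (ξ : Lam P) {g : G} (hg : ¬ p ∣ orderOf g) :
    ∑ χ : IrrCharacter G, (coefA θ ξ χ : ℂ) * (χ : G → ℂ) g = 0 := by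
  haveI := Fintype.ofFinite (C P)
  have h := congrFun (eq_sum_classInner_smul (isClassFunction_indFun (C P)
    ((phi lamOne θ : C P → ℂ) - (phi ξ θ : C P → ℂ)))) g
  rw [indFun_regular (fun c hc => by
    rw [Pi.sub_apply, phi_regular _ _ hc, phi_regular _ _ hc, sub_self]) hg] at h
  simp only [Finset.sum_apply, Pi.smul_apply, smul_eq_mul, indFun_sub, classInner_sub_left,
    classInner_ind_phi] at h
  rw [h]
  exact Finset.sum_congr rfl fun χ _ => by rw [coefA]; push_cast; ring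

/-- The coherent family of exceptional characters. -/
theorem exists_family (hP : Nat.card (P : Subgroup G) = p) (θ : Th P) :
    ∃ (m : ℕ) (F : Fin m → Lam P) (cls : Lam P → Fin m) (ε : ℤ) (μ : Fin m → IrrCharacter G)
      (i₀ : Fin m),
      m * (C P).relIndex (Tgrp θ) = p - 1 ∧ (ε = 1 ∨ ε = -1) ∧ Function.Injective μ ∧
      (∀ i, F i ≠ lamOne) ∧
      (∀ χ ξ, ξ ≠ lamOne → mult χ (phi ξ θ) = mult χ (phi (F (cls ξ)) θ)) ∧
      (∀ χ i, (mult χ (phi (F i) θ) : ℤ) - mult χ (phi (F i₀) θ) =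
        ε * ((if μ i = χ then 1 else 0) - (if μ i₀ = χ then 1 else 0))) ∧
      (∀ i (g : G), ¬ p ∣ orderOf g → (μ i : G → ℂ) g = (μ i₀ : G → ℂ) g) ∧
      (∀ i, i ≠ i₀ → ε * (coefA θ (F i₀) (μ i) - coefA θ (F i₀) (μ i₀)) = 1) ∧
      (∀ i, Nat.card {ξ : Lam P // ξ ≠ lamOne ∧ cls ξ = i} = (C P).relIndex (Tgrp θ)) := by
  classical
  haveI := Fintype.ofFinite (C P)
  have hp : p.Prime := Fact.out
  let X := {ξ : Lam P // ξ ≠ lamOne}
  have hXne : Nonempty X := by
    have h := card_Lam_ne_one (G := G) hP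
    obtain ⟨ξ, hξ⟩ := (Finset.card_pos (s := Finset.univ.filter fun ξ : Lam P => ξ ≠ lamOne)).1
      (by rw [h]; have := hp.two_le; omega)
    exact ⟨⟨ξ, (Finset.mem_filter.1 hξ).2⟩⟩
  let s : Setoid X := ⟨fun a b => Conj P (phi b.1 θ : C P → ℂ) (phi a.1 θ : C P → ℂ),
    fun a => Conj.refl (isClassFunction_of_isIrr (phi a.1 θ).2),
    fun {a b} h => h.symm (isClassFunction_of_isIrr (phi a.1 θ).2),
    fun {a b c} h h' => h'.trans h⟩
  haveI : Fintype (Quotient s) := Fintype.ofFinite _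
  set m := Fintype.card (Quotient s) with hm
  let E : Quotient s ≃ Fin m := Fintype.equivFin _
  let F : Fin m → Lam P := fun i => (E.symm i).out.1
  have hF1 : ∀ i, F i ≠ lamOne := fun i => (E.symm i).out.2
  let a₀ : X := hXne.some
  let cls : Lam P → Fin m := fun ξ => if h : ξ ≠ lamOne then E ⟦⟨ξ, h⟩⟧ else E ⟦a₀⟧
  have hFconj : ∀ i j, Conj P (phi (F i) θ : C P → ℂ) (phi (F j) θ : C P → ℂ) ↔ i = j := by
    intro i j
    refine ⟨fun h => E.symm.injective ?_, fun h => h ▸ Conj.refl (isClassFunction_of_isIrr (phi (F i) θ).2)⟩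
    rw [← (E.symm i).out_eq, ← (E.symm j).out_eq]
    exact (Quotient.sound (s := s) (a := (E.symm j).out) (b := (E.symm i).out) h).symm
  have hcount : m * (C P).relIndex (Tgrp θ) = p - 1 := by
    have hfib : ∀ q : Quotient s, (Finset.univ.filter fun a : X => (⟦a⟧ : Quotient s) = q).card =
        (C P).relIndex (Tgrp θ) := by
      intro q
      rw [← card_conj_class hP θ q.out.2]
      refine Finset.card_bij (fun a _ => a.1) (fun a ha => ?_) (fun a _ b _ h => Subtype.ext h)
        (fun η hη => ?_)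
      · simp only [Finset.mem_filter, Finset.mem_univ, true_and] at ha ⊢
        subst ha
        exact ⟨a.2, Quotient.mk_out (s := s) a⟩
      · simp only [Finset.mem_filter, Finset.mem_univ, true_and] at hη
        refine ⟨⟨η, hη.1⟩, ?_, rfl⟩
        simp only [Finset.mem_filter, Finset.mem_univ, true_and]
        refine Eq.trans ?_ q.out_eq
        exact (Quotient.sound (s := s) (a := q.out) (b := ⟨η, hη.1⟩) hη.2).symm
    rw [← card_Lam_ne_one (G := G) hP, ← Fintype.card_subtype (fun ξ : Lam P => ξ ≠ lamOne),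
      ← Finset.card_univ,
      Finset.card_eq_sum_card_fiberwise (f := fun a : X => (⟦a⟧ : Quotient s))
        (t := Finset.univ) (fun a _ => Finset.mem_univ _)]
    simp only [hfib, Finset.sum_const, Finset.card_univ, smul_eq_mul, ← hm]
  have hinv : ∀ (χ : IrrCharacter G) (φ φ' : IrrCharacter (C P)),
      Conj P (φ : C P → ℂ) (φ' : C P → ℂ) → mult χ φ = mult χ φ' := by
    intro χ φ φ' ⟨g, hg, hgφ⟩
    have h := inner_cj (P := P) (isClassFunction_of_isIrr χ.2) hg (φ' : C P → ℂ)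
    rw [hgφ, mult_spec, mult_spec] at h
    exact_mod_cast h
  have hcls : ∀ χ ξ, ξ ≠ lamOne → mult χ (phi ξ θ) = mult χ (phi (F (cls ξ)) θ) := by
    intro χ ξ hξ
    refine (hinv χ _ _ ?_).symm
    show Conj P (phi (E.symm (cls ξ)).out.1 θ : C P → ℂ) (phi ξ θ : C P → ℂ)
    simp only [cls, dif_pos hξ, Equiv.symm_apply_apply]
    exact (Quotient.mk_out (s := s) (⟨ξ, hξ⟩ : X)).symm (isClassFunction_of_isIrr (phi _ θ).2)
  set i₀ : Fin m := E ⟦a₀⟧
  let τ : Fin m → G → ℂ := fun i =>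
    indFun (C P) ((phi (F i) θ : C P → ℂ) - (phi (F i₀) θ : C P → ℂ))
  have hvan : ∀ i j (c : C P), ¬ p ∣ orderOf c →
      ((phi (F i) θ : C P → ℂ) - (phi (F j) θ : C P → ℂ)) c = 0 := fun i j c hc => by
    rw [Pi.sub_apply, phi_regular _ _ hc, phi_regular _ _ hc, sub_self]
  have hC0 : (Nat.card (C P) : ℂ) ≠ 0 := card_ne_zero_complex _
  have hgram : ∀ i j, classInner (τ i) (τ j) = (if i = j then 1 else 0) - (if i = i₀ then 1 else 0)
      - (if i₀ = j then 1 else 0) + 1 := by
    intro i j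
    simp only [τ]
    rw [inner_ind (star_of_card hP) _ _ (hvan i i₀)]
    have hp' : ∀ a b, (Nat.card (C P) : ℂ)⁻¹ * ∑ g ∈ Finset.univ.filter (fun g => g ∈ N P),
        classInner (phi (F a) θ : C P → ℂ) (cj P g (phi (F b) θ : C P → ℂ)) =
        if a = b then 1 else 0 := fun a b => by
      rw [sum_inner_cj (reg_phi hP (hF1 b) θ)]
      simp only [hFconj]
      split_ifs <;> simp [hC0]
    simp only [cj_sub, classInner_sub_left, classInner_sub_right, Finset.sum_sub_distrib, mul_sub,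
      hp', if_true]
    ring
  obtain ⟨ε', hε', μ, hμ, hτμ⟩ := exists_coherent_family i₀ τ
    (by simp only [τ, sub_self]; exact indFun_zero (C P))
    (fun i => ⟨_, _, isCharacter_indFun (C P) (isCharacter_of_isIrr (phi (F i) θ).2),
      isCharacter_indFun (C P) (isCharacter_of_isIrr (phi (F i₀) θ).2), indFun_sub (C P) _ _⟩)
    (fun i => by
      simp only [τ]
      rw [indFun_one, hvan i i₀ 1 not_dvd_one', mul_zero])
    (fun i j hi hj => ⟨fun h => by subst h; rw [hgram]; simp [hi, Ne.symm hi]; norm_num,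
      fun h => by rw [hgram]; simp [h, hi, Ne.symm hj]⟩)
  obtain ⟨ε, hε, rfl⟩ : ∃ ε : ℤ, (ε = 1 ∨ ε = -1) ∧ (ε : ℂ) = ε' := by
    rcases hε' with rfl | rfl
    · exact ⟨1, Or.inl rfl, by simp⟩
    · exact ⟨-1, Or.inr rfl, by simp⟩
  refine ⟨m, F, cls, ε, μ, i₀, hcount, hε, hμ, hF1, hcls, fun χ i => ?_, fun i g hg => ?_,
    fun i hi => ?_, fun i => ?_⟩
  · have h : classInner (τ i) (χ : G → ℂ) = _ :=
      congrArg (fun f => classInner f (χ : G → ℂ)) (hτμ i)
    simp only [τ, indFun_sub, classInner_sub_left, classInner_smul_left, classInner_ind_phi,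
      classInner_irrCharacter] at h
    rw [← Int.cast_inj (α := ℂ)]
    push_cast
    simpa using h
  · have h := congrFun (hτμ i) g
    rw [show τ i g = 0 from indFun_regular (hvan i i₀) hg] at h
    simp only [Pi.smul_apply, Pi.sub_apply, smul_eq_mul] at h
    have hεne : (ε : ℂ) ≠ 0 := by rcases hε with rfl | rfl <;> simp
    exact sub_eq_zero.1 ((mul_eq_zero.1 h.symm).resolve_left hεne)
  · set β : C P → ℂ := (phi lamOne θ : C P → ℂ) - (phi (F i₀) θ : C P → ℂ) with hβ
    have h1 : classInner (τ i) (indFun (C P) β) = 1 := by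
      simp only [τ]
      rw [inner_ind (star_of_card hP) _ _ (hvan i i₀)]
      have hz : ∀ a, ∀ g ∈ Finset.univ.filter (fun g => g ∈ N P),
          classInner (phi (F a) θ : C P → ℂ) (cj P g (phi lamOne θ : C P → ℂ)) = 0 := by
        intro a g hg
        rw [cj_phi (Finset.mem_filter.1 hg).2]
        refine classInner_irr_ne (phi _ _).2 (phi _ _).2 fun h => hF1 a ?_
        refine ((Prod.ext_iff.1 ((phi_bijective hP).1 (a₁ := (F a, θ)) (a₂ := (_, _))
          (Subtype.ext h))).1).trans ?_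
        exact Subtype.ext (MonoidHom.ext fun c => rfl)
      simp only [hβ, cj_sub, classInner_sub_left, classInner_sub_right, Finset.sum_sub_distrib]
      rw [Finset.sum_eq_zero (hz i), Finset.sum_eq_zero (hz i₀),
        sum_inner_cj (reg_phi hP (hF1 i₀) θ), sum_inner_cj (reg_phi hP (hF1 i₀) θ),
        if_neg (fun h => hi ((hFconj _ _).1 h)), if_pos ((hFconj _ _).2 rfl)]
      field_simp
      ring
    have hc : ∀ χ : IrrCharacter G,
        classInner (indFun (C P) β) (χ : G → ℂ) = (coefA θ (F i₀) χ : ℂ) := fun χ => by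
      rw [hβ, indFun_sub, classInner_sub_left, classInner_ind_phi, classInner_ind_phi, coefA]
      push_cast
      ring
    rw [hτμ i, classInner_smul_left, classInner_sub_left, classInner_conj_symm (indFun (C P) β) (μ i : G → ℂ),
      classInner_conj_symm (indFun (C P) β) (μ i₀ : G → ℂ), hc, hc, map_intCast, map_intCast] at h1
    exact_mod_cast h1
  · rw [← card_conj_class hP θ (E.symm i).out.2, Nat.card_eq_fintype_card, Fintype.card_subtype]
    congr 1
    refine Finset.filter_congr fun ξ _ => and_congr_right fun hξ => ?_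
    constructor
    · intro h
      simp only [cls, dif_pos hξ] at h
      have h2 : (⟦(⟨ξ, hξ⟩ : X)⟧ : Quotient s) = E.symm i := by rw [← h, Equiv.symm_apply_apply]
      exact Quotient.exact (h2.trans (E.symm i).out_eq.symm).symm
    · intro h
      simp only [cls, dif_pos hξ]
      have h2 := (Quotient.sound (s := s) (a := (E.symm i).out) (b := (⟨ξ, hξ⟩ : X)) h).symm.trans
        (E.symm i).out_eq
      rw [h2, Equiv.apply_symm_apply]

end Cfsg.Agent.Lib.DefectOne
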