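import Mathlib.RepresentationTheory.Irreducible
import Mathlib.GroupTheory.SchurZassenhaus
import Mathlib.GroupTheory.Sylow
import Mathlib.Algebra.CharP.Lemmas
import Mathlib.LinearAlgebra.FiniteDimensional.Basic

/-!
# Fixed points modulo traces for a Sylow subgroup of prime order
-/

set_option autoImplicit false
set_option linter.unusedSectionVars false

namespace Cfsg.Agent.Lib.DefectOne

universe u v w

variable {k : Type} [Field k] {G : Type u} [Group G] [Fintype G] {p : ℕ} [Fact p.Prime]
  (P : Sylow p G) {V : Type v} [AddCommGroup V] [Module k V] {W : Type w} [AddCommGroup W]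
  [Module k W]

/-- The normaliser of the Sylow subgroup. -/
abbrev Nor : Subgroup G := Subgroup.normalizer ((P : Subgroup G) : Set G)

open scoped Classical in
/-- The trace over the Sylow subgroup. -/
noncomputable def tr (ρ : Representation k G V) : V →ₗ[k] V :=
  ∑ x ∈ Finset.univ.filter (fun x => x ∈ (P : Subgroup G)), ρ x

open scoped Classical in
theorem tr_apply (ρ : Representation k G V) (v : V) :
    tr P ρ v = ∑ x ∈ Finset.univ.filter (fun x => x ∈ (P : Subgroup G)), ρ x v := by
  simp [tr, LinearMap.sum_apply]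

open scoped Classical in
theorem tr_eq_sum (ρ : Representation k G V) (v : V) :
    tr P ρ v = ∑ x : (P : Subgroup G), ρ (x : G) v := by
  rw [tr_apply, ← Finset.sum_subtype (p := fun x => x ∈ (P : Subgroup G))
    (Finset.univ.filter fun x => x ∈ (P : Subgroup G)) (by simp) (fun x => ρ x v)]

/-- Sums over free orbits are traces. -/
theorem sum_free_mem (ρ : Representation k G V) {Ω : Type*} [Fintype Ω]
    [MulAction (P : Subgroup G) Ω]
    (hfree : ∀ (x : (P : Subgroup G)) (c : Ω), x • c = c → x = 1) (T : Ω → V)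
    (hT : ∀ (x : (P : Subgroup G)) (c : Ω), T (x • c) = ρ (x : G) (T c)) :
    ∑ c, T c ∈ LinearMap.range (tr P ρ) := by
  classical
  let O := Quotient (MulAction.orbitRel (P : Subgroup G) Ω)
  haveI : Fintype O := Fintype.ofFinite O
  let f : O × (P : Subgroup G) → Ω := fun q => q.2 • q.1.out
  have hf : Function.Bijective f := by
    constructor
    · rintro ⟨o, x⟩ ⟨o', x'⟩ h
      have ho : o = o' := by
        rw [← o.out_eq, ← o'.out_eq]
        refine Quotient.sound (MulAction.orbitRel_apply.2 ⟨x⁻¹ * x', ?_⟩)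
        show (x⁻¹ * x') • o'.out = o.out
        rw [mul_smul, ← show x • o.out = x' • o'.out from h, inv_smul_smul]
      subst ho
      have : (x'⁻¹ * x) • o.out = o.out := by
        rw [mul_smul, show x • o.out = x' • o.out from h, inv_smul_smul]
      exact Prod.ext rfl (inv_mul_eq_one.1 (hfree _ _ this)).symm
    · intro c
      obtain ⟨x, hx⟩ := MulAction.orbitRel_apply.1 (Quotient.mk_out
        (s := MulAction.orbitRel (P : Subgroup G) Ω) c)
      refine ⟨(Quotient.mk'' c, x⁻¹), ?_⟩
      show x⁻¹ • (Quotient.mk'' c : O).out = c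
      rw [← show x • c = (Quotient.mk'' c : O).out from hx, inv_smul_smul]
  refine ⟨∑ o : O, T o.out, ?_⟩
  rw [map_sum, ← Fintype.sum_bijective f hf (fun q => T (f q)) T (fun _ => rfl),
    Fintype.sum_prod_type]
  exact Finset.sum_congr rfl fun o _ => by rw [tr_eq_sum]; simp only [f, hT]

theorem rho_tr (ρ : Representation k G V) {g : G} (hg : g ∈ Nor P) (v : V) :
    ρ g (tr P ρ v) = tr P ρ (ρ g v) := by
  classical
  rw [tr_apply, tr_apply, map_sum]
  refine Finset.sum_bij' (fun x _ => g * x * g⁻¹) (fun x _ => g⁻¹ * x * g)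
    (fun x hx => ?_) (fun x hx => ?_) (fun x _ => by group) (fun x _ => by group) (fun x _ => ?_)
  · simp only [Finset.mem_filter, Finset.mem_univ, true_and] at hx ⊢
    exact (Subgroup.mem_normalizer_iff.1 hg x).1 hx
  · simp only [Finset.mem_filter, Finset.mem_univ, true_and] at hx ⊢
    refine (Subgroup.mem_normalizer_iff.1 hg _).2 ?_
    simpa [mul_assoc] using hx
  · simp only [← Module.End.mul_apply, ← map_mul, inv_mul_cancel_right]

open scoped Classical in
theorem tr_rho_mem (ρ : Representation k G V) {x : G} (hx : x ∈ (P : Subgroup G)) (v : V) :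
    ρ x (tr P ρ v) = tr P ρ v := by
  rw [tr_eq_sum, map_sum]
  refine Fintype.sum_equiv (Equiv.mulLeft ⟨x, hx⟩) _ _ fun y => ?_
  rw [← Module.End.mul_apply, ← map_mul]
  rfl

/-- An embedding of a module of the normaliser into the fixed points, not into the traces. -/
def IsEmb (ρ : Representation k G V) (σ : Representation k (Nor P) W) (ι : W →ₗ[k] V) : Prop :=
  (∀ (n : Nor P) (w : W), ρ (n : G) (ι w) = ι (σ n w)) ∧ ∃ w, ι w ∉ LinearMap.range (tr P ρ)

/-- The Sylow subgroup acts trivially. -/
def TrivOn (σ : Representation k (Nor P) W) : Prop :=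
  ∀ n : Nor P, (n : G) ∈ (P : Subgroup G) → σ n = 1

variable {P}

theorem IsEmb.fixed {ρ : Representation k G V} {σ : Representation k (Nor P) W} {ι : W →ₗ[k] V}
    (hι : IsEmb P ρ σ ι) (hσ : TrivOn P σ) {x : G} (hx : x ∈ (P : Subgroup G)) (w : W) :
    ρ x (ι w) = ι w := by
  have := hι.1 ⟨x, Subgroup.le_normalizer hx⟩ w
  rwa [hσ _ hx, Module.End.one_apply] at this

variable (P) in
/-- A complement of the Sylow subgroup in its normaliser. -/
theorem exists_complement :
    ∃ H : Subgroup (Nor P), Subgroup.IsComplement' ((P : Subgroup G).subgroupOf (Nor P)) H ∧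
      ¬ p ∣ Nat.card H := by
  haveI : ((P : Subgroup G).subgroupOf (Nor P)).Normal :=
    Subgroup.normal_subgroupOf_of_le_normalizer le_rfl
  have hnd : ¬ p ∣ ((P : Subgroup G).subgroupOf (Nor P)).index :=
    (P.subtype (Subgroup.le_normalizer)).not_dvd_index
  have hcop : (Nat.card ((P : Subgroup G).subgroupOf (Nor P))).Coprime
      ((P : Subgroup G).subgroupOf (Nor P)).index := by
    obtain ⟨m, hm⟩ := IsPGroup.iff_card.1 (P.subtype (Subgroup.le_normalizer (H := (P : Subgroup G)))).2
    rw [show Nat.card ((P : Subgroup G).subgroupOf (Nor P)) = p ^ m from hm]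
    exact ((Nat.Prime.coprime_iff_not_dvd Fact.out).2 hnd).pow_left m
  obtain ⟨H, hH⟩ := Subgroup.exists_right_complement'_of_coprime hcop
  exact ⟨H, hH, by rwa [hH.symm.index_eq_card] at hnd⟩

/-- Averaging over a complement. -/
noncomputable def avg (H : Subgroup (Nor P)) [Fintype H] (ρ : Representation k G V)
    (σ : Representation k (Nor P) W) (f : W →ₗ[k] V) : W →ₗ[k] V :=
  (Nat.card H : k)⁻¹ • ∑ h : H, (ρ ((h : Nor P) : G)) ∘ₗ f ∘ₗ (σ (h : Nor P)⁻¹)

theorem avg_equivariant {H : Subgroup (Nor P)} [Fintype H]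
    (hH : Subgroup.IsComplement' ((P : Subgroup G).subgroupOf (Nor P)) H)
    (ρ : Representation k G V) (σ : Representation k (Nor P) W) {f : W →ₗ[k] V}
    (hf : ∀ (x : Nor P), (x : G) ∈ (P : Subgroup G) → ∀ w, ρ (x : G) (f w) = f (σ x w))
    (n : Nor P) (w : W) : ρ (n : G) (avg H ρ σ f w) = avg H ρ σ f (σ n w) := by
  obtain ⟨⟨x, h₀⟩, hn⟩ := hH.2 n
  dsimp only at hn
  simp only [avg, LinearMap.smul_apply, LinearMap.sum_apply, LinearMap.comp_apply, map_smul,
    map_sum]
  congr 1
  refine Fintype.sum_equiv (Equiv.mulLeft h₀) _ _ fun h => ?_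
  simp only [Equiv.coe_mulLeft, Subgroup.coe_mul]
  set b : Nor P := (h₀ : Nor P) * (h : Nor P) with hb
  haveI : ((P : Subgroup G).subgroupOf (Nor P)).Normal :=
    Subgroup.normal_subgroupOf_of_le_normalizer le_rfl
  have hm : ((b⁻¹ * x * b : Nor P) : G) ∈ (P : Subgroup G) := by
    have := Subgroup.Normal.conj_mem inferInstance (x : Nor P) x.2 b⁻¹
    rwa [inv_inv] at this
  have e : n * (h : Nor P) = b * (b⁻¹ * x * b) := by
    rw [← hn, hb]; group
  have e2 : σ b⁻¹ (σ n w) = σ (b⁻¹ * x * b) (σ (h : Nor P)⁻¹ w) := by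
    rw [← Module.End.mul_apply, ← map_mul, ← Module.End.mul_apply (σ _), ← map_mul]
    congr 2
    rw [← hn, hb]; group
  simp only [show ((h₀ * h : H) : Nor P) = b from rfl]
  rw [e2, ← hf _ hm, ← Module.End.mul_apply, ← map_mul, ← Module.End.mul_apply (ρ _), ← map_mul,
    ← Subgroup.coe_mul, e, Subgroup.coe_mul]

/-- The quotient by a subrepresentation. -/
noncomputable def quotRep {ρ : Representation k G V} (U : Subrepresentation ρ) :
    Representation k G (V ⧸ U.toSubmodule) where
  toFun g := U.toSubmodule.mapQ U.toSubmodule (ρ g) fun v hv => U.apply_mem_toSubmodule g hv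
  map_one' := by
    refine Submodule.linearMap_qext _ (LinearMap.ext fun v => ?_)
    simp
  map_mul' a b := by
    refine Submodule.linearMap_qext _ (LinearMap.ext fun v => ?_)
    simp

theorem quotRep_tr {ρ : Representation k G V} (U : Subrepresentation ρ) (v : V) :
    tr P (quotRep U) (U.toSubmodule.mkQ v) = U.toSubmodule.mkQ (tr P ρ v) := by
  classical
  rw [tr_apply, tr_apply, map_sum]
  rfl

theorem sub_tr {ρ : Representation k G V} (U : Subrepresentation ρ) (v : U.toSubmodule) :
    ((tr P U.toRepresentation v : U.toSubmodule) : V) = tr P ρ (v : V) := by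
  classical
  rw [tr_apply, tr_apply, AddSubmonoidClass.coe_finset_sum]
  rfl

/-- Half exactness: an embedding descends to a submodule or to the quotient. -/
theorem IsEmb.sub_or_quot [CharP k p] {ρ : Representation k G V} {σ : Representation k (Nor P) W}
    {ι : W →ₗ[k] V} (hι : IsEmb P ρ σ ι) (hσ : TrivOn P σ) (U : Subrepresentation ρ) :
    (∃ ι' : W →ₗ[k] U.toSubmodule, IsEmb P U.toRepresentation σ ι') ∨
      ∃ ι' : W →ₗ[k] (V ⧸ U.toSubmodule), IsEmb P (quotRep U) σ ι' := by
  classical
  by_cases hq : ∃ w, U.toSubmodule.mkQ (ι w) ∉ LinearMap.range (tr P (quotRep U))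
  · refine Or.inr ⟨U.toSubmodule.mkQ ∘ₗ ι, fun n w => ?_, hq⟩
    show U.toSubmodule.mkQ (ρ (n : G) (ι w)) = _
    rw [hι.1]
    rfl
  push Not at hq
  left
  -- choose linearly a trace differing by an element of the submodule
  let S : V × U.toSubmodule →ₗ[k] V := (tr P ρ).coprod U.toSubmodule.subtype
  have hS : ∀ w, ι w ∈ LinearMap.range S := by
    intro w
    obtain ⟨q, hq'⟩ := hq w
    obtain ⟨v, rfl⟩ := Submodule.mkQ_surjective U.toSubmodule q
    rw [quotRep_tr, eq_comm, Submodule.mkQ_apply, Submodule.mkQ_apply, Submodule.Quotient.eq] at hq'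
    exact ⟨(v, ⟨_, hq'⟩), by simp [S]⟩
  obtain ⟨g, hg⟩ := S.rangeRestrict.exists_rightInverse_of_surjective S.range_rangeRestrict
  let c : W →ₗ[k] V × U.toSubmodule := g ∘ₗ ι.codRestrict (LinearMap.range S) hS
  have hc : ∀ w, tr P ρ (c w).1 + ((c w).2 : V) = ι w := fun w =>
    congrArg Subtype.val (LinearMap.congr_fun hg (ι.codRestrict (LinearMap.range S) hS w))
  let f : W →ₗ[k] U.toSubmodule := LinearMap.snd k V U.toSubmodule ∘ₗ c
  have hfx : ∀ (x : Nor P), (x : G) ∈ (P : Subgroup G) → ∀ w,
      U.toRepresentation (x : G) (f w) = f (σ x w) := by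
    intro x hx w
    rw [hσ x hx, Module.End.one_apply]
    refine Subtype.ext ?_
    show ρ (x : G) ((c w).2 : V) = ((c w).2 : V)
    have e : ((c w).2 : V) = ι w - tr P ρ (c w).1 := by rw [← hc w, add_sub_cancel_left]
    rw [e, map_sub, hι.fixed hσ hx, tr_rho_mem P ρ hx]
  obtain ⟨H, hH, hpH⟩ := exists_complement P
  refine ⟨avg H U.toRepresentation σ f, avg_equivariant hH _ _ hfx, ?_⟩
  obtain ⟨w₀, hw₀⟩ := hι.2
  refine ⟨w₀, fun hmem => hw₀ ?_⟩
  obtain ⟨u, hu⟩ := hmem
  have hH0 : (Nat.card H : k) ≠ 0 := fun h => hpH ((CharP.cast_eq_zero_iff k p _).1 h)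
  have hval : ((avg H U.toRepresentation σ f w₀ : U.toSubmodule) : V) - ι w₀ ∈
      LinearMap.range (tr P ρ) := by
    have e1 : ι w₀ = (Nat.card H : k)⁻¹ • ∑ h : H, ι w₀ := by
      rw [Finset.sum_const, Finset.card_univ, ← Nat.card_eq_fintype_card,
        ← Nat.cast_smul_eq_nsmul k, smul_smul, inv_mul_cancel₀ hH0, one_smul]
    rw [e1]
    simp only [avg, LinearMap.smul_apply, LinearMap.sum_apply, LinearMap.comp_apply,
      Submodule.coe_smul, AddSubmonoidClass.coe_finset_sum, ← smul_sub, ← Finset.sum_sub_distrib]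
    refine Submodule.smul_mem _ _ (Submodule.sum_mem _ fun h _ => ?_)
    show ρ ((h : Nor P) : G) ((c (σ (h : Nor P)⁻¹ w₀)).2 : V) - ι w₀ ∈ _
    set w' := σ (h : Nor P)⁻¹ w₀ with hw'
    have e2 : ι w₀ = ρ ((h : Nor P) : G) (ι w') := by
      rw [hι.1, hw', ← Module.End.mul_apply, ← map_mul, mul_inv_cancel, map_one,
        Module.End.one_apply]
    rw [e2, ← map_sub, show ((c w').2 : V) - ι w' = -(tr P ρ (c w').1) by rw [← hc w']; abel,
      map_neg, rho_tr P ρ (h : Nor P).2]
    exact Submodule.neg_mem _ (LinearMap.mem_range_self _ _)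
  rw [← hu, sub_tr] at hval
  have := Submodule.sub_mem _ (LinearMap.mem_range_self (tr P ρ) (u : V)) hval
  rwa [sub_sub_cancel] at this

variable (k) in
/-- Some irreducible module receives the embedding. -/
theorem exists_simple [CharP k p] {σ : Representation k (Nor P) W} (hσ : TrivOn P σ) :
    ∀ (m : ℕ) {V : Type v} [AddCommGroup V] [Module k V] [FiniteDimensional k V]
      (ρ : Representation k G V) (ι : W →ₗ[k] V), Module.finrank k V ≤ m → IsEmb P ρ σ ι →
      ∃ (d : ℕ) (τ : Representation k G (Fin d → k)) (ι' : W →ₗ[k] (Fin d → k)),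
        τ.IsIrreducible ∧ IsEmb P τ σ ι' := by
  intro m
  induction m with
  | zero =>
    intro V _ _ _ ρ ι hm hι
    obtain ⟨w, hw⟩ := hι.2
    haveI : Subsingleton V := Module.finrank_zero_iff.1 (Nat.le_zero.1 hm)
    exact absurd (Subsingleton.elim (ι w) 0 ▸ Submodule.zero_mem _) hw
  | succ m ih =>
    intro V _ _ _ ρ ι hm hι
    by_cases hred : ∃ U : Subrepresentation ρ, U.toSubmodule ≠ ⊥ ∧ U.toSubmodule ≠ ⊤
    · obtain ⟨U, hb, ht⟩ := hred
      rcases hι.sub_or_quot hσ U with ⟨ι', h⟩ | ⟨ι', h⟩
      · exact ih U.toRepresentation ι' (by have := Submodule.finrank_lt ht; omega) h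
      · refine ih (quotRep U) ι' ?_ h
        have := U.toSubmodule.finrank_quotient_add_finrank
        have h0 : Module.finrank k U.toSubmodule ≠ 0 := fun h0 => hb (Submodule.finrank_eq_zero.1 h0)
        omega
    · push Not at hred
      let e := (Module.finBasis k V).equivFun
      let τ : Representation k G (Fin (Module.finrank k V) → k) :=
        { toFun := fun g => e.conj (ρ g)
          map_one' := by rw [map_one]; exact e.conj_id
          map_mul' := fun a b => by rw [map_mul]; exact LinearEquiv.conj_comp _ _ _ }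
      have hτ : ∀ g v, τ g (e v) = e (ρ g v) := fun g v => by simp [τ, LinearEquiv.conj_apply]
      refine ⟨_, τ, e.toLinearMap ∘ₗ ι, ?_, fun n w => ?_, ?_⟩
      · obtain ⟨w, hw⟩ := hι.2
        have hne : ι w ≠ 0 := fun h => hw (h ▸ Submodule.zero_mem _)
        haveI : Nontrivial (Subrepresentation τ) := by
          refine ⟨⟨⊥, ⊤, fun h => hne (e.injective ?_)⟩⟩
          rw [map_zero]
          have : e (ι w) ∈ (⊥ : Subrepresentation τ).toSubmodule := by rw [h]; trivial
          exact (Submodule.mem_bot k).1 this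
        refine ⟨fun U => ?_⟩
        let U' : Subrepresentation ρ := ⟨U.toSubmodule.comap e.toLinearMap, fun g v hv => by
          show e (ρ g v) ∈ U.toSubmodule
          rw [← hτ]; exact U.apply_mem_toSubmodule g hv⟩
        by_cases hb : U'.toSubmodule = ⊥
        · refine Or.inl (Subrepresentation.toSubmodule_injective ((Submodule.eq_bot_iff _).2 fun v hv => ?_))
          have : e.symm v ∈ U'.toSubmodule := by
            show e (e.symm v) ∈ U.toSubmodule
            rwa [e.apply_symm_apply]
          rw [hb, Submodule.mem_bot] at this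
          exact e.symm.injective (this.trans (map_zero _).symm)
        · refine Or.inr (Subrepresentation.toSubmodule_injective (Submodule.eq_top_iff'.2 fun v => ?_))
          have : e.symm v ∈ U'.toSubmodule := by rw [hred U' hb]; trivial
          have h' : e (e.symm v) ∈ U.toSubmodule := this
          rwa [e.apply_symm_apply] at h'
      · show τ (n : G) (e (ι w)) = e (ι (σ n w))
        rw [hτ, hι.1]
      · obtain ⟨w, hw⟩ := hι.2
        refine ⟨w, fun ⟨x, hx⟩ => hw ⟨e.symm x, e.injective ?_⟩⟩
        classical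
        have hxe : tr P τ x = e (tr P ρ (e.symm x)) := by
          rw [tr_apply, tr_apply, map_sum]
          exact Finset.sum_congr rfl fun g _ => by rw [← hτ, e.apply_symm_apply]
        rw [← hxe]
        exact hx

end Cfsg.Agent.Lib.DefectOne
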