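import Cfsg.Agent.Lib.CharClifford.Extend
import Cfsg.Agent.Lib.CharClifford.AbelianInertia
import Mathlib.GroupTheory.SpecificGroups.Cyclic

/-!
# The characters over an irreducible character with cyclic inertia quotient
-/

set_option autoImplicit false
set_option linter.unusedSectionVars false

namespace Cfsg.Agent.Lib.DefectOne

open Cfsg Cfsg.Agent.Lib Cfsg.Agent.Lib.Char

universe u

variable {H : Type u} [Group H] [Fintype H]

/-- With cyclic inertia quotient there are as many characters over `θ` as the inertia index. -/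
theorem exists_over (K : Subgroup H) [K.Normal] [Fintype K] {θ : K → ℂ} (hθ : IsIrrCharacter K θ)
    (hcyc : IsCyclic (↥(inertia K θ) ⧸ K.subgroupOf (inertia K θ))) :
    ∃ ψ : Fin (K.relIndex (inertia K θ)) → IrrCharacter H, Function.Injective ψ ∧
      ∀ i, classInner (fun k : K => (ψ i : H → ℂ) k) θ ≠ 0 := by
  classical
  set T := inertia K θ with hTdef
  have hKT : K ≤ T := le_inertia K (isClassFunction_of_isIrr hθ)
  haveI : Fintype T := Fintype.ofFinite T
  set K' := K.subgroupOf T with hK'
  haveI : Fintype K' := Fintype.ofFinite _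
  let ι : K' ≃* K := Subgroup.subgroupOfEquivOfLe hKT
  set θ' : K' → ℂ := fun x => θ ⟨((x : T) : H), x.2⟩ with hθ'
  have hθ'irr : IsIrrCharacter K' θ' := CharClifford.isIrrCharacter_comp_equiv ι hθ
  have hinv : ∀ t : T, conjChar K' t θ' = θ' := by
    intro t
    funext n
    have h := congrFun ((mem_inertia K).1 t.2) ⟨((n : T) : H), n.2⟩
    rw [conjChar_apply] at h ⊢
    exact h
  obtain ⟨χ, hχ, hres⟩ := CharClifford.extends_of_cyclic hθ'irr hinv hcyc
  have hab : ∀ x y : T, x * y * x⁻¹ * y⁻¹ ∈ K' := by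
    intro x y
    rw [← QuotientGroup.eq_one_iff]
    letI : CommGroup (↥T ⧸ K') := @IsCyclic.commGroup _ _ hcyc
    simp
  obtain ⟨C, hsum, hcard, hC⟩ := CharClifford.indFun_of_abelian_quotient K' hab hθ'irr hχ 1
    one_ne_zero (by rw [Nat.cast_one, one_smul]; exact funext hres)
  simp only [one_pow, one_mul] at hcard
  rw [Nat.cast_one, one_smul] at hsum
  -- induction to the whole group
  let F : C → H → ℂ := fun ξ => indFun T (ξ.1 : T → ℂ)
  have hF : ∀ ξ, IsCharacter H (F ξ) := fun ξ => isCharacter_indFun T (isCharacter_of_isIrr ξ.1.2)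
  have hFsum : indFun K θ = ∑ ξ : C, F ξ := by
    rw [← CharClifford.indFun_subgroupOf hKT θ]
    show indFun T (indFun K' θ') = _
    rw [hsum, indFun_sum, ← Finset.sum_coe_sort C]
  have hnorm : classInner (indFun K θ) (indFun K θ) = (C.card : ℂ) := by
    rw [classInner_indFun_self K hθ, ← hTdef, hcard,
      show Nat.card T = Nat.card K * K'.index by
        rw [← Nat.card_congr ι.toEquiv, Subgroup.card_mul_index], Nat.cast_mul,
      inv_mul_cancel_left₀ (card_ne_zero_complex K)]
  choose a ha using fun ξ η : C => classInner_natCast (hF ξ) (hF η)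
  have hpos : ∀ ξ, 1 ≤ a ξ ξ := by
    intro ξ
    refine Nat.one_le_iff_ne_zero.2 fun h => ?_
    have h0 := eq_zero_of_classInner_self (F ξ) (by rw [ha, h, Nat.cast_zero])
    have h1 : F ξ 1 = 0 := by rw [h0]; rfl
    simp only [F] at h1
    rw [indFun_one] at h1
    rcases mul_eq_zero.1 h1 with h2 | h2
    · exact Subgroup.index_ne_zero_of_finite (H := T) (Nat.cast_eq_zero.1 h2)
    · exact irr_degree_ne_zero ξ.1.2 h2
  have htot : ∑ ξ : C, ∑ η : C, a ξ η = C.card := by
    rw [hFsum, classInner_sum_left] at hnorm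
    simp only [classInner_sum_right, ha] at hnorm
    exact_mod_cast hnorm
  have hone : ∀ ξ η, a ξ η = if ξ = η then 1 else 0 := by
    have hdiag : ∀ ξ, ∑ η : C, a ξ η = 1 := by
      intro ξ
      have hle : ∀ ζ ∈ (Finset.univ : Finset C), 1 ≤ ∑ η : C, a ζ η := fun ζ _ =>
        (hpos ζ).trans (Finset.single_le_sum (fun _ _ => Nat.zero_le _) (Finset.mem_univ ζ))
      have heq : ∑ ζ : C, 1 = ∑ ζ : C, ∑ η : C, a ζ η := by
        rw [htot, Finset.sum_const, Finset.card_univ, Fintype.card_coe, smul_eq_mul, mul_one]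
      exact ((Finset.sum_eq_sum_iff_of_le hle).1 heq ξ (Finset.mem_univ ξ)).symm
    intro ξ η
    have h := hdiag ξ
    rw [← Finset.add_sum_erase _ _ (Finset.mem_univ ξ)] at h
    have h1 := hpos ξ
    split_ifs with he
    · subst he; omega
    · have : a ξ η ≤ ∑ ζ ∈ Finset.univ.erase ξ, a ξ ζ :=
        Finset.single_le_sum (fun _ _ => Nat.zero_le _)
          (Finset.mem_erase.2 ⟨Ne.symm he, Finset.mem_univ _⟩)
      omega
  let ψ : C → IrrCharacter H := fun ξ => ⟨F ξ, isIrrCharacter_of_norm_one (hF ξ) (by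
    rw [ha, hone, if_pos rfl, Nat.cast_one])⟩
  have hψinj : Function.Injective ψ := by
    intro ξ η h
    by_contra hne
    have h1 := ha ξ η
    rw [hone, if_neg hne, show F η = F ξ from (congrArg Subtype.val h).symm, ha, hone, if_pos rfl] at h1
    norm_num at h1
  have hCe : Fintype.card C = K.relIndex T := by
    rw [Fintype.card_coe, hcard, Subgroup.relIndex]
  let E : Fin (K.relIndex T) ≃ C := (Fintype.equivFinOfCardEq hCe).symm
  refine ⟨fun i => ψ (E i), hψinj.comp E.injective, fun i => ?_⟩
  rw [← classInner_indFun_right K θ (isClassFunction_of_isIrr (ψ (E i)).2), hFsum,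
    classInner_sum_right]
  show ∑ η, classInner (F (E i)) (F η) ≠ 0
  simp only [ha, hone]
  simp

end Cfsg.Agent.Lib.DefectOne
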