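import Cfsg.Agent.Lib.Block.Normal
import Cfsg.Agent.Lib.Block.Brauer
import Mathlib.RepresentationTheory.Irreducible
import Mathlib.LinearAlgebra.FiniteDimensional.Basic

/-!
# A simple module attached to an irreducible character of a group of order prime to p
-/

set_option autoImplicit false
set_option linter.unusedSectionVars false

namespace Cfsg.Agent.Lib.DefectOne

open Cfsg Cfsg.Agent.Lib Cfsg.Agent.Lib.Block

universe u

variable {p : ℕ} {M : Ideal AlgInt} [M.IsPrime] {H : Type u} [Group H] [Finite H]

open scoped Classical in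
theorem toF_eIdem_singleton_mul (hM : IsPModular p M) (hH : ¬ p ∣ Nat.card H)
    (ψ : IrrCharacter H) {a : MonoidAlgebra ℂ H} (ha : IsClassCoeff a) (haR : IntR M a) :
    toF M a * toF M (eIdem ({ψ} : Set (IrrCharacter H))) =
      redC M (omega (ψ : H → ℂ) a) • toF M (eIdem ({ψ} : Set (IrrCharacter H))) := by
  have hR := intR_eIdem_of_pPrime (M := M) hM hH ({ψ} : Set (IrrCharacter H))
  have hc := isClassCoeff_eIdem ({ψ} : Set (IrrCharacter H))
  have e : a * eIdem ({ψ} : Set (IrrCharacter H)) =
      omega (ψ : H → ℂ) a • eIdem ({ψ} : Set (IrrCharacter H)) := by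
    refine eq_of_omega_eq (ha.mul hc) (hc.smul _) fun φ => ?_
    rw [omega_mul φ ha, omega_smul, omega_eIdem]
    by_cases h : φ = ψ
    · subst h; simp
    · simp [h]
  rw [← toF_mul haR hR, e]
  refine alg_ext fun x => ?_
  simp only [coeff_toF, MonoidAlgebra.coeff_smul_apply, smul_eq_mul]
  exact redC_mul (omega_mem_locRing ψ ha haR) (hR x)

theorem toF_eIdem_singleton_ne_zero (hM : IsPModular p M) (hH : ¬ p ∣ Nat.card H)
    (ψ : IrrCharacter H) : toF M (eIdem ({ψ} : Set (IrrCharacter H))) ≠ 0 := by
  classical
  haveI := Fintype.ofFinite H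
  intro h
  have hR := intR_eIdem_of_pPrime (M := M) hM hH ({ψ} : Set (IrrCharacter H))
  have h1 := redC_omega_eq_sum (M := M) ψ (isClassCoeff_eIdem ({ψ} : Set (IrrCharacter H))) hR
  rw [omega_eIdem, if_pos (Set.mem_singleton ψ), redC_one] at h1
  refine one_ne_zero (h1.trans (Finset.sum_eq_zero fun C _ => ?_))
  rw [← coeff_toF, h]
  simp

/-- A simple module on which the idempotent of `ψ` is the identity. -/
theorem exists_simple_module (hM : IsPModular p M) (hH : ¬ p ∣ Nat.card H) (ψ : IrrCharacter H) :
    ∃ (d : ℕ) (σ : Representation (ResField M) H (Fin d → ResField M)), σ.IsIrreducible ∧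
      σ.asAlgebraHom (toF M (eIdem ({ψ} : Set (IrrCharacter H)))) = 1 := by
  classical
  haveI := Fintype.ofFinite H
  set E := toF M (eIdem ({ψ} : Set (IrrCharacter H))) with hE
  have hR := intR_eIdem_of_pPrime (M := M) hM hH ({ψ} : Set (IrrCharacter H))
  have hidem : E * E = E := by
    rw [hE, ← toF_mul hR hR, (isIdempotentElem_eIdem _).eq]
  have hcomm : ∀ b, Commute E b := fun b =>
    (isClassCoeff_toF (M := M) (isClassCoeff_eIdem ({ψ} : Set (IrrCharacter H)))).commute b
  let ρ : Representation (ResField M) H (MonoidAlgebra (ResField M) H) :=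
    { toFun := fun h => LinearMap.mulLeft (ResField M) (MonoidAlgebra.single h 1)
      map_one' := LinearMap.ext fun v => by simp [← MonoidAlgebra.one_def]
      map_mul' := fun a b => LinearMap.ext fun v => by simp [← mul_assoc] }
  have hρ : ∀ h v, ρ h v = MonoidAlgebra.single h 1 * v := fun h v => rfl
  let U : Subrepresentation ρ :=
    ⟨{ carrier := {v | v * E = v}
       add_mem' := fun {a b} ha hb => by simp only [Set.mem_ofPred_eq] at ha hb ⊢; rw [add_mul, ha, hb]
       zero_mem' := zero_mul E
       smul_mem' := fun c a ha => by simp only [Set.mem_ofPred_eq] at ha ⊢; rw [smul_mul_assoc, ha] },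
      fun g v hv => by
        show ρ g v * E = ρ g v
        rw [hρ, mul_assoc, show v * E = v from hv]⟩
  have hUne : U.toSubmodule ≠ ⊥ := fun h => toF_eIdem_singleton_ne_zero hM hH ψ (by
    have hm : E ∈ U.toSubmodule := hidem
    rwa [h, Submodule.mem_bot] at hm)
  haveI : FiniteDimensional (ResField M) (MonoidAlgebra (ResField M) H) :=
    Module.Finite.of_basis (MonoidAlgebra.basis H (ResField M))
  -- a minimal nonzero submodule
  have hex : ∃ n, ∃ U' : Subrepresentation ρ, U'.toSubmodule ≤ U.toSubmodule ∧
      U'.toSubmodule ≠ ⊥ ∧ Module.finrank (ResField M) U'.toSubmodule = n :=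
    ⟨_, U, le_rfl, hUne, rfl⟩
  obtain ⟨U', hle, hne, hrk⟩ := Nat.find_spec hex
  have hmin : ∀ W : Subrepresentation ρ, W.toSubmodule ≤ U'.toSubmodule → W.toSubmodule ≠ ⊥ →
      W.toSubmodule = U'.toSubmodule := by
    intro W hW hW0
    refine Submodule.eq_of_le_of_finrank_le hW ?_
    rw [hrk]
    exact Nat.find_le ⟨W, hW.trans hle, hW0, rfl⟩
  let e := (Module.finBasis (ResField M) U'.toSubmodule).equivFun
  let σ : Representation (ResField M) H (Fin (Module.finrank (ResField M) U'.toSubmodule) → ResField M) :=
    { toFun := fun g => e.conj (U'.toRepresentation g)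
      map_one' := by rw [map_one]; exact e.conj_id
      map_mul' := fun a b => by rw [map_mul]; exact LinearEquiv.conj_comp _ _ _ }
  have hσ : ∀ g v, σ g (e v) = e (U'.toRepresentation g v) := fun g v => by
    simp [σ, LinearEquiv.conj_apply]
  have halg : ∀ (a : MonoidAlgebra (ResField M) H) (v : U'.toSubmodule) (w : U'.toSubmodule),
      a * (v : MonoidAlgebra (ResField M) H) = (w : MonoidAlgebra (ResField M) H) →
      σ.asAlgebraHom a (e v) = e w := by
    intro a v w haw
    have hgen : ∀ b : MonoidAlgebra (ResField M) H,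
        ((e.symm (σ.asAlgebraHom b (e v)) : U'.toSubmodule) : MonoidAlgebra (ResField M) H) =
          b * (v : MonoidAlgebra (ResField M) H) := by
      intro b
      induction b using MonoidAlgebra.induction_linear with
      | zero => simp
      | add x y hx hy => simp [add_mul, hx, hy]
      | single g r =>
        rw [Representation.asAlgebraHom_single, LinearMap.smul_apply, hσ, map_smul,
          LinearEquiv.symm_apply_apply, Submodule.coe_smul]
        show r • ρ g (v : MonoidAlgebra (ResField M) H) = _
        rw [hρ, ← smul_mul_assoc, MonoidAlgebra.smul_single', mul_one]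
    apply e.symm.injective
    rw [e.symm_apply_apply]
    exact Subtype.ext ((hgen a).trans haw)
  refine ⟨_, σ, ?_, LinearMap.ext fun x => ?_⟩
  · haveI : Nontrivial (Subrepresentation σ) := by
      refine ⟨⟨⊥, ⊤, fun h => hne ((Submodule.eq_bot_iff _).2 fun v hv => ?_)⟩⟩
      have : e ⟨v, hv⟩ ∈ (⊥ : Subrepresentation σ).toSubmodule := by rw [h]; trivial
      exact congrArg Subtype.val (e.injective
        (((Submodule.mem_bot _).1 this).trans (map_zero e).symm))
    refine ⟨fun W => ?_⟩
    let W' : Subrepresentation ρ :=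
      ⟨(W.toSubmodule.comap e.toLinearMap).map U'.toSubmodule.subtype, fun g v hv => by
        obtain ⟨w, hw, rfl⟩ := hv
        refine ⟨U'.toRepresentation g w, ?_, rfl⟩
        show e (U'.toRepresentation g w) ∈ W.toSubmodule
        rw [← hσ]
        exact W.apply_mem_toSubmodule g hw⟩
    by_cases h0 : W'.toSubmodule = ⊥
    · refine Or.inl (Subrepresentation.toSubmodule_injective ((Submodule.eq_bot_iff _).2 fun x hx => ?_))
      have hmem : ((e.symm x : U'.toSubmodule) : MonoidAlgebra (ResField M) H) ∈ W'.toSubmodule :=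
        ⟨e.symm x, by show e (e.symm x) ∈ W.toSubmodule; rwa [e.apply_symm_apply], rfl⟩
      rw [h0, Submodule.mem_bot] at hmem
      exact e.symm.injective ((Subtype.ext hmem : e.symm x = 0).trans (map_zero _).symm)
    · refine Or.inr (Subrepresentation.toSubmodule_injective (Submodule.eq_top_iff'.2 fun x => ?_))
      have hW := hmin W' (Submodule.map_subtype_le _ _) h0
      obtain ⟨w, hw, hwx⟩ : ((e.symm x : U'.toSubmodule) : MonoidAlgebra (ResField M) H) ∈
          W'.toSubmodule := by rw [hW]; exact (e.symm x).2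
      rw [Subtype.ext hwx] at hw
      have hw' : e (e.symm x) ∈ W.toSubmodule := hw
      rwa [e.apply_symm_apply] at hw'
  · obtain ⟨v, rfl⟩ := e.surjective x
    rw [Module.End.one_apply]
    refine halg E v v ?_
    rw [(hcomm _).eq]
    exact hle v.2

end Cfsg.Agent.Lib.DefectOne
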