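import Cfsg.Agent.Lib.DefectOne.Family
import Cfsg.Agent.Lib.DefectOne.Rank
import Cfsg.Agent.Lib.DefectOne.Over
import Cfsg.Agent.Lib.DefectOne.PPrimeModule
import Cfsg.Agent.Lib.Block.Apply
import Mathlib.RingTheory.IntegralDomain

/-!
# The rank of a block of full defect one is at least the inertial index
-/

set_option autoImplicit false
set_option linter.unusedSectionVars false

namespace Cfsg.Agent.Lib.DefectOne

open Cfsg Cfsg.Agent.Lib Cfsg.Agent.Lib.Char Cfsg.Agent.Lib.Char.UC
open scoped ComplexConjugate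

universe u

variable {p : ℕ} [Fact p.Prime] {G : Type u} [Group G] [Fintype G] {P : Sylow p G}

variable (P) in
/-- The centraliser inside the normaliser. -/
abbrev CN : Subgroup (Nor P) := (C P).subgroupOf (Nor P)

instance : (CN P).Normal := by
  refine ⟨fun c hc n => ?_⟩
  have h : (n : G)⁻¹⁻¹ * (c : G) * (n : G)⁻¹ ∈ C P := conj_mem_C (inv_mem n.2) hc
  rw [inv_inv] at h
  exact h

/-- A trivial character as a function on the centraliser inside the normaliser. -/
noncomputable def thN (θ : Th P) : CN P → ℂ :=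
  fun x => (θ.1 : C P → ℂ) ⟨((x : Nor P) : G), x.2⟩

variable (P) in
/-- Conjugation on the centraliser inside the normaliser. -/
noncomputable def conjCN (n : Nor P) : CN P ≃ CN P where
  toFun c := ⟨n * (c : Nor P) * n⁻¹, Subgroup.Normal.conj_mem inferInstance (c : Nor P) c.2 n⟩
  invFun c := ⟨n⁻¹ * (c : Nor P) * n⁻¹⁻¹,
    Subgroup.Normal.conj_mem inferInstance (c : Nor P) c.2 n⁻¹⟩
  left_inv c := Subtype.ext (by simp [mul_assoc])
  right_inv c := Subtype.ext (by simp [mul_assoc])

theorem isIrr_thN (θ : Th P) : IsIrrCharacter (CN P) (thN θ) :=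
  CharClifford.isIrrCharacter_comp_equiv (Subgroup.subgroupOfEquivOfLe (C_le_N P)) θ.1.2

theorem inertia_thN (θ : Th P) : inertia (CN P) (thN θ) = (Tgrp θ).subgroupOf (Nor P) := by
  ext n
  rw [mem_inertia, Subgroup.mem_subgroupOf, ← inv_mem_iff (x := (n : G)), mem_Tgrp]
  constructor
  · intro h
    refine ⟨inv_mem n.2, funext fun c => ?_⟩
    rw [cj_apply (inv_mem n.2)]
    have := congrFun h ⟨⟨(c : G), C_le_N P c.2⟩, c.2⟩
    rw [conjChar_apply] at this
    exact Eq.trans (congrArg _ (Subtype.ext (by simp))) this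
  · rintro ⟨-, h⟩
    funext x
    have := congrFun h ⟨((x : Nor P) : G), x.2⟩
    rw [cj_apply (inv_mem n.2)] at this
    rw [conjChar_apply]
    show (θ.1 : C P → ℂ) _ = (θ.1 : C P → ℂ) _
    exact Eq.trans (congrArg _ (Subtype.ext (by simp))) this

theorem inertia_relIndex (θ : Th P) :
    (CN P).relIndex (inertia (CN P) (thN θ)) = (C P).relIndex (Tgrp θ) := by
  rw [inertia_thN]
  exact Subgroup.relIndex_subgroupOf (fun g hg => (mem_Tgrp.1 hg).1)

theorem inertia_cyclic (hP : Nat.card (P : Subgroup G) = p) (θ : Th P) :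
    IsCyclic (↥(inertia (CN P) (thN θ)) ⧸ (CN P).subgroupOf (inertia (CN P) (thN θ))) := by
  haveI : IsCyclic (P : Subgroup G) := isCyclic_of_prime_card hP
  haveI : Fact (Nat.card (P : Subgroup G)).Prime := ⟨by rw [hP]; exact Fact.out⟩
  let f : ↥(inertia (CN P) (thN θ)) →* (ZMod (Nat.card (P : Subgroup G)))ˣ :=
    ((IsCyclic.mulAutMulEquiv (P : Subgroup G)).toMonoidHom.comp
      (Subgroup.normalizerMonoidHom (P : Subgroup G))).comp (inertia (CN P) (thN θ)).subtype
  have hker : f.ker = (CN P).subgroupOf (inertia (CN P) (thN θ)) := by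
    ext m
    rw [Subgroup.mem_subgroupOf]
    show _ ↔ ((m : Nor P)) ∈ (Subgroup.centralizer ((P : Subgroup G) : Set G)).subgroupOf (Nor P)
    rw [← Subgroup.normalizerMonoidHom_ker]
    simp only [f, MonoidHom.mem_ker, MonoidHom.comp_apply, MulEquiv.coe_toMonoidHom,
      EmbeddingLike.map_eq_one_iff]
    rfl
  haveI : IsCyclic f.range := Subgroup.isCyclic _
  let e := (QuotientGroup.quotientMulEquivOfEq hker.symm).trans (QuotientGroup.quotientKerEquivRange f)
  exact isCyclic_of_injective e.toMonoidHom e.injective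

theorem omega_conj_eq {B : Set (IrrCharacter G)} [Fintype (CN P)] (θ : Th P) (n : Nor P) :
    ∑ c : CN P, blockCoeff B ((c : Nor P) : G) * conjChar (CN P) n (thN θ) c =
      ∑ c : CN P, blockCoeff B ((c : Nor P) : G) * thN θ c := by
  refine Fintype.sum_equiv (conjCN P n) _ _ fun c => ?_
  have h := Block.isClassFunction_blockCoeff B ((c : Nor P) : G) (n : G)
  show _ = blockCoeff B ((n : G) * ((c : Nor P) : G) * (n : G)⁻¹) * _
  rw [h, conjChar_apply]
  rfl

variable {M : Ideal AlgInt} [M.IsPrime]

/-- The rank of the block is at least the inertial index. -/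
theorem relIndex_Tgrp_le_blockRank (hM : IsPModular p M) (hP : Nat.card (P : Subgroup G) = p)
    (θ : Th P) {B : Set (IrrCharacter G)} (hB : IsPBlock M B)
    (hind : IsInducedBlock M (C P) (blockOf M (θ.1 : C P → ℂ)) B) :
    (C P).relIndex (Tgrp θ) ≤ blockRank p B := by
  classical
  haveI := Fintype.ofFinite (C P)
  haveI : Fintype (CN P) := Fintype.ofFinite _
  haveI := Block.resField_charP (M := M) hM
  obtain ⟨ψ, hψi, hψ⟩ := exists_over (CN P) (isIrr_thN θ) (inertia_cyclic hP θ)
  rw [← inertia_relIndex θ, ← Fintype.card_fin ((CN P).relIndex (inertia (CN P) (thN θ)))]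
  -- the value of the central character at the restricted idempotent
  have hθω : Block.redC M ((∑ c : CN P, blockCoeff B ((c : Nor P) : G) * thN θ c) /
      thN θ 1) = 1 := by
    obtain ⟨χ, hχ⟩ := Block.isPBlock_nonempty hB
    have h := Block.redC_omega_toSub_eq hind (Block.mem_blockOf_self θ.1) hχ
      (Block.isClassCoeff_eIdem B) (Block.intR_eIdem hB)
    rw [Block.omega_eIdem, if_pos hχ, Block.redC_one, Block.omega_eq_sum] at h
    rw [← h]
    congr 1
    refine congrArg₂ (· / ·) ?_ rfl
    refine Fintype.sum_equiv (Subgroup.subgroupOfEquivOfLe (C_le_N P)).toEquiv _ _ fun c => ?_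
    rw [Block.coeff_toSub, Block.coeff_eIdem]
    rfl
  set H := Nor P ⧸ (P : Subgroup G).subgroupOf (Nor P) with hHdef
  haveI hPn : ((P : Subgroup G).subgroupOf (Nor P)).Normal :=
    Subgroup.normal_subgroupOf_of_le_normalizer le_rfl
  have hH : ¬ p ∣ Nat.card H := (P.subtype (Subgroup.le_normalizer)).not_dvd_index
  have hdecomp : ∀ i (c : CN P), (ψ i : Nor P → ℂ) c =
      classInner (fun k : CN P => (ψ i : Nor P → ℂ) k) (thN θ) *
        ∑ φ ∈ orbit (CN P) (thN θ), φ c := by
    intro i c
    have h := congrFun (clifford (CN P) (ψ i).2 (isIrr_thN θ) (hψ i)) c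
    simpa [Finset.sum_apply] using h
  have htriv : ∀ i, ∀ x ∈ (P : Subgroup G).subgroupOf (Nor P),
      (ψ i : Nor P → ℂ) x = (ψ i : Nor P → ℂ) 1 := by
    intro i x hx
    have h1 := hdecomp i ⟨x, le_C (star_of_card hP) hx⟩
    have h2 := hdecomp i 1
    refine h1.trans (Eq.trans ?_ h2.symm)
    congr 1
    refine Finset.sum_congr rfl fun φ hφ => ?_
    obtain ⟨n, rfl⟩ := (mem_orbit (CN P)).1 hφ
    rw [conjChar_apply_one, conjChar_apply]
    show (θ.1 : C P → ℂ) _ = (θ.1 : C P → ℂ) _
    refine Eq.trans (θ.2 _ ?_) (congrArg _ (Subtype.ext (by simp)))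
    exact (Subgroup.mem_normalizer_iff.1 n.2 (x : G)).1 hx
  choose ψ' hψ'irr hψ'val using fun i => exists_irr_deflation (ψ i).2 _ (htriv i)
  let Ψ : Fin ((CN P).relIndex (inertia (CN P) (thN θ))) → IrrCharacter H :=
    fun i => ⟨ψ' i, hψ'irr i⟩
  have hΨinj : Function.Injective Ψ := fun a b h => hψi (Subtype.ext (funext fun g => by
    rw [← hψ'val a g, ← hψ'val b g]
    exact congrFun (congrArg Subtype.val h) _))
  choose d σ hσirr hσE using fun i => exists_simple_module (M := M) hM hH (Ψ i)
  let mk : Nor P →* H := QuotientGroup.mk' _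
  let A : MonoidAlgebra ℂ H :=
    ∑ c : CN P, MonoidAlgebra.single (mk (c : Nor P)) (blockCoeff B ((c : Nor P) : G))
  have hAR : Block.IntR M A := by
    intro x
    simp only [A, Block.coeff_sum_apply, MonoidAlgebra.coeff_single, Finsupp.single_apply]
    refine sum_mem fun c _ => ?_
    split_ifs
    · exact Block.intR_eIdem (M := M) hB _
    · exact zero_mem _
  have hAc : Block.IsClassCoeff A := by
    intro u
    obtain ⟨n, rfl⟩ := QuotientGroup.mk'_surjective _ u
    rw [Block.invUnder_iff_commute]
    show _ * A = A * _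
    show MonoidAlgebra.single (mk n) (1 : ℂ) * A = A * MonoidAlgebra.single (mk n) (1 : ℂ)
    simp only [A]
    refine (Finset.mul_sum _ _ _).trans (Eq.trans ?_ (Finset.sum_mul _ _ _).symm)
    simp only [MonoidAlgebra.single_mul_single, one_mul, mul_one]
    refine Fintype.sum_equiv (conjCN P n) _ _ fun c => ?_
    have h := Block.isClassFunction_blockCoeff B ((c : Nor P) : G) (n : G)
    show _ = MonoidAlgebra.single (mk (n * c * n⁻¹) * mk n) (blockCoeff B ((n : G) * ((c : Nor P) : G) * (n : G)⁻¹))
    rw [h, ← map_mul mk (n * c * n⁻¹) n, inv_mul_cancel_right, map_mul]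
  have hAω : ∀ i, Block.redC M (Block.omega (Ψ i : H → ℂ) A) = 1 := by
    intro i
    rw [← hθω]
    congr 1
    set m := classInner (fun k : CN P => (ψ i : Nor P → ℂ) k) (thN θ)
    have hval : ∀ c : CN P, (Ψ i : H → ℂ) (mk (c : Nor P)) = m * ∑ φ ∈ orbit (CN P) (thN θ), φ c :=
      fun c => (hψ'val i (c : Nor P)).trans (hdecomp i c)
    have h1 : (Ψ i : H → ℂ) 1 = m * ((orbit (CN P) (thN θ)).card : ℂ) * thN θ 1 := by
      have h := hval 1
      rw [Finset.sum_congr rfl (g := fun _ => thN θ 1) fun φ hφ => by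
        obtain ⟨n, rfl⟩ := (mem_orbit (CN P)).1 hφ; exact conjChar_apply_one _ n _,
        Finset.sum_const, nsmul_eq_mul, OneMemClass.coe_one, map_one, ← mul_assoc] at h
      exact h
    have h2 : Block.pair (Ψ i : H → ℂ) A = m * ((orbit (CN P) (thN θ)).card : ℂ) *
        ∑ c : CN P, blockCoeff B ((c : Nor P) : G) * thN θ c := by
      simp only [A, Block.pair_sum, Block.pair_single, hval]
      calc ∑ c : CN P, blockCoeff B ((c : Nor P) : G) * (m * ∑ φ ∈ orbit (CN P) (thN θ), φ c)
          = m * ∑ φ ∈ orbit (CN P) (thN θ),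
              ∑ c : CN P, blockCoeff B ((c : Nor P) : G) * φ c := by
            rw [Finset.sum_comm, Finset.mul_sum]
            refine Finset.sum_congr rfl fun c _ => ?_
            rw [← Finset.mul_sum]
            ring
        _ = _ := by
            rw [Finset.sum_congr rfl (g := fun _ => ∑ c : CN P, blockCoeff B ((c : Nor P) : G) * thN θ c) fun φ hφ => by
              obtain ⟨n, rfl⟩ := (mem_orbit (CN P)).1 hφ
              exact omega_conj_eq (B := B) θ n, Finset.sum_const, nsmul_eq_mul, mul_assoc]
    have hne : m * ((orbit (CN P) (thN θ)).card : ℂ) ≠ 0 := by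
      intro h0
      have := irr_degree_ne_zero (Ψ i).2
      rw [h1, h0, zero_mul] at this
      exact this rfl
    rw [Block.omega, h2, h1, mul_div_mul_left _ _ hne]
  have hone : ∀ i, (σ i).asAlgebraHom (Block.toF M A) = 1 := by
    intro i
    have h := congrArg (σ i).asAlgebraHom (toF_eIdem_singleton_mul hM hH (Ψ i) hAc hAR)
    rwa [hAω, one_smul, map_mul, hσE, mul_one] at h
  let σN : ∀ i, Representation (Block.ResField M) (Nor P) (Fin (d i) → Block.ResField M) :=
    fun i => (σ i).comp mk
  refine card_le_blockRank hM hP hB σN (fun i => ?_) (fun i n hn => ?_) (fun a b hab => ?_)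
    fun i => ?_
  · -- irreducibility
    haveI := hσirr i
    let e : Subrepresentation (σN i) ≃o Subrepresentation (σ i) :=
      { toFun := fun U => ⟨U.toSubmodule, fun g v hv => by
          obtain ⟨n, rfl⟩ := QuotientGroup.mk'_surjective _ g
          exact U.apply_mem_toSubmodule n hv⟩
        invFun := fun U => ⟨U.toSubmodule, fun g v hv => U.apply_mem_toSubmodule (mk g) hv⟩
        left_inv := fun _ => rfl
        right_inv := fun _ => rfl
        map_rel_iff' := Iff.rfl }
    exact (OrderIso.isSimpleOrder_iff e).2 (hσirr i)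
  · show σ i (mk n) = 1
    rw [show mk n = 1 from (QuotientGroup.eq_one_iff n).2 hn, map_one]
  · rintro ⟨e, he⟩
    apply hab
    by_contra
    have hcomm : ∀ (x : MonoidAlgebra (Block.ResField M) H) w,
        e ((σ b).asAlgebraHom x w) = (σ a).asAlgebraHom x (e w) := by
      intro x w
      induction x using MonoidAlgebra.induction_linear with
      | zero => simp
      | add x y hx hy => simp [hx, hy]
      | single g r =>
        obtain ⟨n, rfl⟩ := QuotientGroup.mk'_surjective _ g
        simp only [Representation.asAlgebraHom_single, LinearMap.smul_apply, map_smul]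
        exact congrArg _ (he n w)
    haveI := hσirr a
    have hnt : ∃ v : Fin (d a) → Block.ResField M, v ≠ 0 := by
      by_contra hz
      push Not at hz
      exact absurd (inferInstance : Nontrivial (Subrepresentation (σ a)))
        (not_nontrivial_iff_subsingleton.2 ⟨fun U W => Subrepresentation.toSubmodule_injective
          (Submodule.ext fun v => by simp [hz v])⟩)
    obtain ⟨v, hv⟩ := hnt
    have h1 := hcomm (Block.toF M (Block.eIdem ({Ψ b} : Set (IrrCharacter H)))) (e.symm v)
    rw [hσE, Module.End.one_apply, e.apply_symm_apply] at h1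
    have h2 := congrArg (σ a).asAlgebraHom (toF_eIdem_singleton_mul hM hH (Ψ a)
      (Block.isClassCoeff_eIdem ({Ψ b} : Set (IrrCharacter H)))
      (Block.intR_eIdem_of_pPrime hM hH _))
    rw [Block.omega_eIdem, if_neg (fun h => hab (hΨinj (Set.mem_singleton_iff.1 h))),
      Block.redC_zero, zero_smul, map_zero, map_mul, hσE, mul_one] at h2
    rw [h2, LinearMap.zero_apply] at h1
    exact hv h1
  · rw [show LinearMap.id = (σ i).asAlgebraHom (Block.toF M A) from (hone i).symm]
    have htoF : Block.toF M A = ∑ c : CN P, MonoidAlgebra.single (mk (c : Nor P))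
        (Block.redC M (blockCoeff B ((c : Nor P) : G))) := by
      refine Block.alg_ext fun x => ?_
      simp only [A, Block.coeff_toF, Block.coeff_sum_apply, MonoidAlgebra.coeff_single,
        Finsupp.single_apply]
      rw [Block.redC_sum]
      · exact Finset.sum_congr rfl fun c _ => by split_ifs <;> simp [Block.redC_zero]
      · intro c _
        split_ifs
        · exact Block.intR_eIdem (M := M) hB _
        · exact zero_mem _
    rw [htoF, map_sum, blockOp]
    refine Finset.sum_bij' (fun c _ => ((⟨⟨c.1, centralizer_le_nor P c.2⟩, c.2⟩ : CN P)))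
      (fun c _ => ⟨((c : Nor P) : G), c.2⟩) (fun _ _ => @Finset.mem_univ _ (_) _)
      (fun _ _ => @Finset.mem_univ _ (_) _) (fun _ _ => rfl) (fun _ _ => rfl) fun c _ => ?_
    rw [Representation.asAlgebraHom_single]
    rfl

end Cfsg.Agent.Lib.DefectOne
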