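import Cfsg.Agent.Lib.DefectOne.Principal
import Cfsg.Agent.Lib.DefectOne.GeneralRank
import Cfsg.Agent.Lib.BrauerPairs.Maximal
import Cfsg.Agent.Lib.BrauerPairs.CoveringNormalizer

/-!
# The inducing blocks of a block of defect one are conjugate
-/

set_option autoImplicit false
set_option linter.unusedSectionVars false
set_option linter.style.haveILetI false

namespace Cfsg.Agent.Lib.DefectOne

open Cfsg Cfsg.Agent.Lib Cfsg.Agent.Lib.Char Cfsg.Agent.Lib.Char.UC
open scoped ComplexConjugate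

universe u

variable {p : ℕ} [Fact p.Prime] {G : Type u} [Group G] [Fintype G] {P : Sylow p G}
  {M : Ideal AlgInt} [M.IsPrime]

theorem blockDefect_eq_one (hM : IsPModular p M) (hP : Nat.card (P : Subgroup G) = p)
    {B : Set (IrrCharacter G)} (hB : IsPBlock M B)
    (hBP : IsDefectGroup p M B (P : Subgroup G)) : blockDefect p B = 1 := by
  have h := (Block.IsDefectGroup.props hM hB hBP).2.1
  rw [hP] at h
  exact Nat.pow_right_injective (Fact.out : p.Prime).two_le (h.symm.trans (pow_one p).symm)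

theorem factorization_card (hP : Nat.card (P : Subgroup G) = p) :
    (Nat.card G).factorization p = 1 := by
  have h := P.card_eq_multiplicity
  rw [hP] at h
  exact Nat.pow_right_injective (Fact.out : p.Prime).two_le (h.symm.trans (pow_one p).symm)

/-- A block of positive defect has a member of degree prime to `p`. -/
theorem exists_degree (hM : IsPModular p M) (hP : Nat.card (P : Subgroup G) = p)
    {B : Set (IrrCharacter G)} (hB : IsPBlock M B) (hd : 0 < blockDefect p B) :
    ∃ ψ ∈ B, ¬ p ∣ charDegree (ψ : G → ℂ) := by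
  obtain ⟨χ, hχ⟩ := Block.isPBlock_nonempty hB
  have hne : ((fun χ : IrrCharacter G => (charDegree (χ : G → ℂ)).factorization p) '' B).Nonempty :=
    ⟨_, χ, hχ, rfl⟩
  obtain ⟨ψ, hψ, hv⟩ := Nat.sInf_mem hne
  refine ⟨ψ, hψ, fun hdvd => ?_⟩
  rw [blockDefect, factorization_card hP, ← hv] at hd
  simp only at hd
  have hpos : charDegree (ψ : G → ℂ) ≠ 0 := by
    intro h
    have := irr_degree_ne_zero ψ.2
    rw [apply_one_eq_charDegree (isCharacter_of_isIrr ψ.2), h, Nat.cast_zero] at this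
    exact this rfl
  have := (Fact.out : p.Prime).factorization_pos_of_dvd hpos hdvd
  omega

theorem cj_pbar {g : G} (hg : g ∈ N P)
    (f : Set (IrrCharacter (C P))) :
    BrauerPairs.cj g (BrauerPairs.pbar M (P : Subgroup G) f) =
      BrauerPairs.pbar M (P : Subgroup G)
        (BrauerPairs.mapBlock (BrauerPairs.normEquiv (BrauerPairs.mem_normalizer_centralizer hg))
          f) := by
  have hC := BrauerPairs.mem_normalizer_centralizer hg
  refine Block.alg_ext fun y => ?_
  rw [BrauerPairs.coeff_cj]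
  by_cases hy : y ∈ C P
  · rw [BrauerPairs.pbar, BrauerPairs.pbar, BrauerPairs.coeff_emb_of_mem _ _ hy,
      BrauerPairs.coeff_emb_of_mem _ _ ((Subgroup.mem_normalizer_iff''.1 hC y).1 hy),
      ← BrauerPairs.coeff_bar_mapBlock (BrauerPairs.normEquiv hC) f]
    congr 1
    ext
    rw [BrauerPairs.coe_normEquiv]
    group
  · rw [BrauerPairs.pbar, BrauerPairs.pbar, BrauerPairs.coeff_emb_of_not_mem _ _ hy,
      BrauerPairs.coeff_emb_of_not_mem _ _
        (fun h => hy ((Subgroup.mem_normalizer_iff''.1 hC y).2 h))]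

theorem isBrauerPairOf_of_induced (hM : IsPModular p M) (hP : Nat.card (P : Subgroup G) = p)
    {B : Set (IrrCharacter G)} {b : Set (IrrCharacter (C P))}
    (h : IsInducedBlock M (C P) b B) : IsBrauerPairOf p M B (P : Subgroup G) b :=
  (BrauerPairs.isBrauerPairOf_iff hM).2 ⟨P.2, h.1, h.2.1,
    (BrauerPairs.induced_iff_br hM P.2 (le_C (star_of_card hP)) le_rfl (C_le_N P) h.1 h.2.1).1 h⟩

/-- Trivial characters inducing the same block of full defect are conjugate. -/
theorem exists_conj_of_induced (hM : IsPModular p M) (hP : Nat.card (P : Subgroup G) = p)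
    {B : Set (IrrCharacter G)} (hB : IsPBlock M B) (hd : blockDefect p B = 1) {θ θ' : Th P}
    (h : IsInducedBlock M (C P) (blockOf M (θ.1 : C P → ℂ)) B)
    (h' : IsInducedBlock M (C P) (blockOf M (θ'.1 : C P → ℂ)) B) :
    ∃ g : Nor P, cjTh g.2 θ = θ' := by
  obtain ⟨n, hn, he⟩ := BrauerPairs.exists_normalizer_maximal hM
    (isBrauerPairOf_of_induced hM hP h')
    (BrauerPairs.isMaximal_of_card hM (isBrauerPairOf_of_induced hM hP h)
      (by rw [hP, hd, pow_one]))
  refine ⟨⟨n, hn⟩, ?_⟩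
  rw [cj_pbar hn] at he
  have e := BrauerPairs.pbar_inj (BrauerPairs.isPBlock_mapBlock _ h.1) h'.1 he
  have hmem : phi lamOne (cjTh hn θ) ∈ blockOf M (θ'.1 : C P → ℂ) := by
    rw [← e, phi_one]
    refine ⟨θ.1, Block.mem_blockOf_self θ.1, Subtype.ext (funext fun c => ?_)⟩
    show _ = cj P n (θ.1 : C P → ℂ) c
    rw [cj_apply hn]
    rfl
  exact (phi_mem_block_iff hM hP lamOne θ' (cjTh hn θ)).1 hmem

/-- Conjugation of the multiplicities. -/
theorem mult_cj {g : G} (hg : g ∈ N P) (χ : IrrCharacter G) {φ φ' : IrrCharacter (C P)}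
    (h : (φ' : C P → ℂ) = cj P g (φ : C P → ℂ)) : mult χ φ' = mult χ φ := by
  haveI := Fintype.ofFinite (C P)
  refine Nat.cast_injective (R := ℂ) ?_
  rw [← mult_spec, ← mult_spec, classInner, classInner]
  congr 1
  refine (Fintype.sum_equiv
    (BrauerPairs.normEquiv (BrauerPairs.mem_normalizer_centralizer hg)).toEquiv _ _
    fun c => ?_).symm
  show _ = (χ : G → ℂ) (g * (c : G) * g⁻¹) * conj ((φ' : C P → ℂ) _)
  rw [h, cj_apply hg, isClassFunction_of_isIrr χ.2 (c : G) g]
  congr 2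
  exact congrArg _ (Subtype.ext (by
    show (c : G) = g⁻¹ * (g * (c : G) * g⁻¹) * g
    group))

theorem cjLam_injective {g : G} (hg : g ∈ N P) : Function.Injective (cjLam (P := P) hg) := by
  intro a b h
  refine Subtype.ext (MonoidHom.ext fun c => ?_)
  have := DFunLike.congr_fun (congrArg Subtype.val h)
    ⟨g⁻¹⁻¹ * (c : G) * g⁻¹, conj_mem_C (inv_mem hg) c.2⟩
  rw [cjLam_apply, cjLam_apply] at this
  refine Eq.trans ?_ (this.trans ?_)
  · exact congrArg _ (Subtype.ext (by simp [mul_assoc]))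
  · exact congrArg _ (Subtype.ext (by simp [mul_assoc]))

/-- The components at conjugate trivial characters. -/
theorem S_cjTh (hP : Nat.card (P : Subgroup G) = p) {g : G} (hg : g ∈ N P) (θ : Th P)
    (χ : IrrCharacter G) (x : (P : Subgroup G)) :
    S hP (cjTh hg θ) χ x = S hP θ χ
      ⟨g⁻¹ * (x : G) * g, (Subgroup.mem_normalizer_iff''.1 hg (x : G)).1 x.2⟩ := by
  unfold S
  refine (Fintype.sum_bijective _ (Finite.injective_iff_bijective.1 (cjLam_injective hg)) _ _
    fun ξ => ?_).symm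
  rw [mult_cj hg χ (cj_phi hg ξ θ).symm, cjLam_apply]
  rfl

theorem R_cjTh (hM : IsPModular p M) (hP : Nat.card (P : Subgroup G) = p) {g : G} (hg : g ∈ N P)
    (θ : Th P) (χ : IrrCharacter G) :
    ((R (cjTh hg θ) χ : ℤ) : Block.ResField M) = ((R θ χ : ℤ) : Block.ResField M) := by
  rw [← (redC_S hM hP (cjTh hg θ) χ 1).2, S_cjTh hP hg, (redC_S hM hP θ χ _).2]

theorem cjTh_eq_iff {a b : Nor P} (θ : Th P) :
    cjTh a.2 θ = cjTh b.2 θ ↔ (a : G)⁻¹ * (b : G) ∈ Tgrp θ := by
  rw [mem_Tgrp, Subtype.ext_iff, Subtype.ext_iff]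
  show cj P a (θ.1 : C P → ℂ) = cj P b (θ.1 : C P → ℂ) ↔ _
  constructor
  · intro h
    refine ⟨mul_mem (inv_mem a.2) b.2, ?_⟩
    rw [cj_mul (inv_mem a.2) b.2, ← h, ← cj_mul (inv_mem a.2) a.2, inv_mul_cancel,
      cj_of_mem (one_mem _) (isClassFunction_of_isIrr θ.1.2)]
  · rintro ⟨hm, h⟩
    conv_lhs => rw [← h]
    rw [← cj_mul a.2 hm, mul_inv_cancel_left]

open Classical in
/-- The conjugates of a trivial character. -/
noncomputable def orb (θ : Th P) : Finset (Th P) :=
  haveI := Fintype.ofFinite (Nor P)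
  Finset.univ.image fun n : Nor P => cjTh n.2 θ

theorem mem_orb {θ θ' : Th P} : θ' ∈ orb θ ↔ ∃ n : Nor P, cjTh n.2 θ = θ' := by
  classical
  simp [orb]

theorem card_orb (θ : Th P) : (orb θ).card = (Tgrp θ).relIndex (N P) := by
  classical
  let f : (Nor P) ⧸ (Tgrp θ).subgroupOf (Nor P) → (orb θ) := fun q =>
    ⟨cjTh q.out.2 θ, mem_orb.2 ⟨q.out, rfl⟩⟩
  have hf : Function.Bijective f := by
    constructor
    · intro a b h
      have h' := (cjTh_eq_iff θ).1 (congrArg Subtype.val h)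
      rw [← QuotientGroup.out_eq' a, ← QuotientGroup.out_eq' b]
      exact QuotientGroup.eq.2 h'
    · rintro ⟨θ', hθ'⟩
      obtain ⟨n, rfl⟩ := mem_orb.1 hθ'
      refine ⟨(n : (Nor P) ⧸ (Tgrp θ).subgroupOf (Nor P)), Subtype.ext ((cjTh_eq_iff θ).2 ?_)⟩
      exact Subgroup.mem_subgroupOf.1 (QuotientGroup.eq.1
        (QuotientGroup.out_eq' (n : (Nor P) ⧸ (Tgrp θ).subgroupOf (Nor P))))
  have h := Nat.card_eq_of_bijective f hf
  rw [Nat.card_eq_finsetCard] at h
  exact h.symm

theorem charDegree_cj {g : G} (hg : g ∈ N P) (θ : Th P) :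
    charDegree ((cjTh hg θ).1 : C P → ℂ) = charDegree (θ.1 : C P → ℂ) := by
  refine Nat.cast_injective (R := ℂ) ?_
  rw [← apply_one_eq_charDegree (isCharacter_of_isIrr (cjTh hg θ).1.2),
    ← apply_one_eq_charDegree (isCharacter_of_isIrr θ.1.2)]
  show cj P g (θ.1 : C P → ℂ) 1 = _
  rw [cj_apply hg]
  exact congrArg _ (Subtype.ext (by simp))

/-- Degrees are congruent to the sum of the components. -/
theorem charDegree_congr_orb (hM : IsPModular p M) (hP : Nat.card (P : Subgroup G) = p)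
    {B : Set (IrrCharacter G)} (hd : blockDefect p B = 1) (θ : Th P)
    (hind : IsInducedBlock M (C P) (blockOf M (θ.1 : C P → ℂ)) B)
    {χ : IrrCharacter G} (hχ : χ ∈ B) :
    ((charDegree (χ : G → ℂ) : ℕ) : Block.ResField M) = ((R θ χ : ℤ) : Block.ResField M) *
      (((Tgrp θ).relIndex (N P) * charDegree (θ.1 : C P → ℂ) : ℕ) : Block.ResField M) := by
  classical
  haveI := Block.resField_charP (M := M) hM
  obtain ⟨x, hx, hx1⟩ := exists_mem_ne_one (P := P) hP
  set x' : (P : Subgroup G) := ⟨x, hx⟩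
  have hx' : x' ≠ 1 := fun h => hx1 (congrArg Subtype.val h)
  have hc := isCharacter_of_isIrr χ.2
  have hdeg : ∀ η : Th P, (η.1 : C P → ℂ) 1 = (charDegree (η.1 : C P → ℂ) : ℂ) := fun η =>
    apply_one_eq_charDegree (isCharacter_of_isIrr η.1.2)
  have hmem : ∀ η : Th P, S hP η χ x' * (η.1 : C P → ℂ) 1 ∈ Block.locRing M := fun η => by
    rw [hdeg]
    exact mul_mem (redC_S hM hP η χ x').1 (natCast_mem _ _)
  have e := congrArg (Block.redC M) (apply_eq_sum_S hP χ x' (y := 1) not_dvd_one')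
  rw [OneMemClass.coe_one, Block.redC_char_pPart hM hc (Commute.one_right _)
      (Block.isPElem_of_mem P.2 hx) (by rw [orderOf_one]; exact (Fact.out : p.Prime).not_dvd_one),
    apply_one_eq_charDegree hc, Block.redC_natCast, Block.redC_sum _ fun η _ => hmem η] at e
  rw [e, ← Finset.sum_subset (Finset.subset_univ (orb θ)) fun η _ hη => ?_,
    Finset.sum_congr rfl (g := fun _ => ((R θ χ : ℤ) : Block.ResField M) *
      (charDegree (θ.1 : C P → ℂ) : Block.ResField M)) fun η hη => ?_,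
    Finset.sum_const, card_orb, nsmul_eq_mul, Nat.cast_mul]
  · ring
  · obtain ⟨n, rfl⟩ := mem_orb.1 hη
    rw [hdeg, Block.redC_mul (redC_S hM hP _ χ x').1 (natCast_mem _ _), (redC_S hM hP _ χ x').2,
      R_cjTh hM hP, Block.redC_natCast]
    congr 2
    exact charDegree_cj n.2 θ
  · obtain ⟨B', hB'⟩ := exists_induced_C hM hP η
    have hne : χ ∉ B' := fun hχB' => hη (mem_orb.2 (exists_conj_of_induced hM hP hind.2.1 hd hind
      (by rwa [Block.eq_of_mem_of_mem hind.2.1 hB'.2.1 hχ hχB'])))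
    rw [S_eq_zero hM hP η hB' hne hx', zero_mul, Block.redC_zero]

end Cfsg.Agent.Lib.DefectOne
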