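import Cfsg.Agent.Lib.DefectOne.FixedPoints
import Mathlib.Algebra.Polynomial.AlgebraMap
import Mathlib.Algebra.Ring.GeomSum

/-!
# The fixed points of a simple module modulo traces form a simple module of the normaliser
-/

set_option autoImplicit false
set_option linter.unusedSectionVars false

namespace Cfsg.Agent.Lib.DefectOne

open Polynomial

universe u v w

variable {k : Type} [Field k] {G : Type u} [Group G] [Fintype G] {p : ℕ} [Fact p.Prime]
  [CharP k p] {P : Sylow p G} {V : Type v} [AddCommGroup V] [Module k V] {W : Type w}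
  [AddCommGroup W] [Module k W]

/-- A `p`-element of the normaliser lies in the Sylow subgroup. -/
theorem mem_of_pElem_nor {y : G} {e : ℕ} (hy : orderOf y = p ^ e) (hN : y ∈ Nor P) :
    y ∈ (P : Subgroup G) := by
  have hz : IsPGroup p (Subgroup.zpowers y) := IsPGroup.of_card (n := e) (by rw [Nat.card_zpowers, hy])
  have hsup : IsPGroup p ((P : Subgroup G) ⊔ Subgroup.zpowers y : Subgroup G) :=
    P.2.to_sup_of_normal_left' hz (Subgroup.zpowers_le.2 hN)
  rw [← P.3 hsup le_sup_left]
  exact le_sup_right (a := (P : Subgroup G)) (Subgroup.mem_zpowers y)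

/-- A non-identity element generates a subgroup of prime order. -/
theorem zpowers_eq (hP : Nat.card (P : Subgroup G) = p) {x : G} (hx : x ∈ (P : Subgroup G))
    (h1 : x ≠ 1) : Subgroup.zpowers x = (P : Subgroup G) := by
  have ho : orderOf x = p := by
    rcases (Nat.dvd_prime Fact.out).1 (hP ▸ (Subgroup.orderOf_mk x hx ▸
      orderOf_dvd_natCard (⟨x, hx⟩ : (P : Subgroup G)))) with h | h
    · exact absurd (orderOf_eq_one_iff.1 h) h1
    · exact h
  exact Subgroup.eq_of_le_of_card_ge (Subgroup.zpowers_le.2 hx) (by rw [hP, Nat.card_zpowers, ho])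

/-- Elements moving a non-identity element of the Sylow subgroup into it normalise it. -/
theorem mem_nor_of_conj (hP : Nat.card (P : Subgroup G) = p) {x g : G}
    (hx : x ∈ (P : Subgroup G)) (h1 : x ≠ 1) (hgx : g⁻¹ * x * g ∈ (P : Subgroup G)) :
    g ∈ Nor P := by
  have h1' : g⁻¹ * x * g ≠ 1 := fun h => h1 (by
    rwa [mul_assoc, inv_mul_eq_one, eq_comm, mul_eq_right] at h)
  have key : ∀ i : ℤ, g * (g⁻¹ * x * g) ^ i * g⁻¹ = x ^ i := fun i => by
    rw [← conj_zpow]
    group
  refine Subgroup.mem_normalizer_iff.2 fun w => ⟨fun hw => ?_, fun hw => ?_⟩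
  · rw [← zpowers_eq hP hgx h1'] at hw
    obtain ⟨i, rfl⟩ := hw
    dsimp only
    rw [key]
    exact (P : Subgroup G).zpow_mem hx i
  · rw [← zpowers_eq hP hx h1] at hw
    obtain ⟨i, hi⟩ := hw
    dsimp only at hi
    have e : w = (g⁻¹ * x * g) ^ i := by
      have := key i
      rw [hi] at this
      exact (mul_left_cancel (mul_right_cancel this)).symm
    rw [e]
    exact (P : Subgroup G).zpow_mem hgx i

/-- The trace is a power of a nilpotent operator. -/
theorem tr_eq_pow (hP : Nat.card (P : Subgroup G) = p) {x₀ : G} (hx₀ : x₀ ∈ (P : Subgroup G))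
    (h1 : x₀ ≠ 1) (ρ : Representation k G V) :
    tr P ρ = (ρ x₀ - 1) ^ (p - 1) ∧ (ρ x₀ - 1) ^ p = 0 := by
  classical
  have hz := zpowers_eq hP hx₀ h1
  have ho : orderOf x₀ = p := by rw [← Nat.card_zpowers, hz, hP]
  have hp0 : 0 < p := (Fact.out : p.Prime).pos
  have hsub : ((X : k[X]) - 1) ^ p = X ^ p - 1 := by
    rw [sub_pow_char, one_pow]
  have hgeom : ((X : k[X]) - 1) ^ (p - 1) = ∑ i ∈ Finset.range p, X ^ i := by
    have hne : (X : k[X]) - 1 ≠ 0 := by
      simpa using (X_sub_C_ne_zero (1 : k))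
    refine mul_left_cancel₀ hne ?_
    rw [← pow_succ', Nat.sub_add_cancel hp0, hsub, mul_geom_sum]
  have hT : tr P ρ = ∑ i ∈ Finset.range p, ρ x₀ ^ i := by
    rw [tr]
    refine (Finset.sum_bij (fun i _ => x₀ ^ i) (fun i _ => ?_) (fun i hi j hj h => ?_)
      (fun x hx => ?_) (fun i _ => ?_)).symm
    · simp only [Finset.mem_filter, Finset.mem_univ, true_and]
      exact (P : Subgroup G).pow_mem hx₀ i
    · exact pow_injOn_Iio_orderOf (by simpa [ho] using Finset.mem_range.1 hi)
        (by simpa [ho] using Finset.mem_range.1 hj) h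
    · simp only [Finset.mem_filter, Finset.mem_univ, true_and] at hx
      rw [← hz, mem_zpowers_iff_mem_range_orderOf, ho, Finset.mem_image] at hx
      obtain ⟨i, hi, hx⟩ := hx
      exact ⟨i, hi, hx⟩
    · exact (map_pow ρ x₀ i).symm
  constructor
  · have := congrArg (aeval (R := k) (ρ x₀)) hgeom
    simp only [map_pow, map_sub, aeval_X, map_one, map_sum] at this
    rw [hT, this]
  · have := congrArg (aeval (R := k) (ρ x₀)) hsub
    simp only [map_pow, map_sub, aeval_X, map_one] at this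
    rw [this, ← map_pow, ← ho, pow_orderOf_eq_one, map_one, sub_self]

theorem exists_mem_ne_one (hP : Nat.card (P : Subgroup G) = p) :
    ∃ x ∈ (P : Subgroup G), x ≠ 1 := by
  by_contra hc
  push Not at hc
  have : (P : Subgroup G) = ⊥ := (Subgroup.eq_bot_iff_forall _).2 hc
  rw [this, Subgroup.card_bot] at hP
  exact (Fact.out : p.Prime).one_lt.ne hP

theorem ker_eq_bot_of_irreducible {σ : Representation k (Nor P) W} [hσi : σ.IsIrreducible]
    (S : Submodule k W) (hS : ∀ n : Nor P, ∀ w ∈ S, σ n w ∈ S) : S = ⊥ ∨ S = ⊤ := by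
  rcases eq_bot_or_eq_top (⟨S, fun n _ hw => hS n _ hw⟩ : Subrepresentation σ) with h | h
  · exact Or.inl (congrArg Subrepresentation.toSubmodule h)
  · exact Or.inr (congrArg Subrepresentation.toSubmodule h)

/-- The fixed points of a simple module modulo the traces are the image of the embedding. -/
theorem fixed_mod [IsAlgClosed k] [FiniteDimensional k V] (hP : Nat.card (P : Subgroup G) = p)
    {ρ : Representation k G V} [ρ.IsIrreducible] {σ : Representation k (Nor P) W}
    [σ.IsIrreducible] (hσ : TrivOn P σ) {ι : W →ₗ[k] V} (hι : IsEmb P ρ σ ι) (v : V)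
    (hv : ∀ x ∈ (P : Subgroup G), ρ x v = v) :
    ∃ w, v - ι w ∈ LinearMap.range (tr P ρ) := by
  classical
  obtain ⟨x₀, hx₀, hx1⟩ := exists_mem_ne_one hP
  obtain ⟨hTr, hΔp⟩ := tr_eq_pow hP hx₀ hx1 ρ
  have hz := zpowers_eq hP hx₀ hx1
  set D : Module.End k V := ρ x₀ - 1 with hD
  have hfix0 : ∀ u : V, (∀ x ∈ (P : Subgroup G), ρ x u = u) → D u = 0 := fun u hu => by
    simp [hD, hu x₀ hx₀]
  have hpowP : ∀ x ∈ (P : Subgroup G), ∃ a : ℕ, x₀ ^ a = x := by
    intro x hx
    rw [← hz, mem_zpowers_iff_mem_range_orderOf, Finset.mem_image] at hx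
    obtain ⟨i, _, hi⟩ := hx
    exact ⟨i, hi⟩
  -- the images of the powers of `D` are stable under the normaliser
  have hstab : ∀ (n : Nor P) (i : ℕ), ∃ B : Module.End k V,
      ρ (n : G) * D ^ i = D ^ i * B := by
    intro n i
    obtain ⟨a, ha⟩ := hpowP _ ((Subgroup.mem_normalizer_iff.1 n.2 x₀).1 hx₀)
    have h1 : ρ (n : G) * D = D * (∑ j ∈ Finset.range a, ρ x₀ ^ j) * ρ (n : G) := by
      rw [hD, mul_geom_sum, ← map_pow, ha, mul_sub, sub_mul, mul_one, one_mul, ← map_mul,
        ← map_mul, inv_mul_cancel_right]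
    induction i with
    | zero => exact ⟨ρ (n : G), by simp⟩
    | succ i ih =>
      obtain ⟨B, hB⟩ := ih
      refine ⟨(∑ j ∈ Finset.range a, ρ x₀ ^ j) * B, ?_⟩
      have hc : Commute (∑ j ∈ Finset.range a, ρ x₀ ^ j) (D ^ i) := by
        refine Commute.pow_right (Commute.sum_left _ _ _ fun j _ => ?_) i
        rw [hD]
        exact ((Commute.refl (ρ x₀)).pow_left j).sub_right (Commute.one_right _)
      rw [pow_succ', ← mul_assoc, h1, mul_assoc (D * _) (ρ (n : G)), hB, mul_assoc D,
        ← mul_assoc _ (D ^ i), hc.eq, mul_assoc, mul_assoc]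
  let T : ℕ → Submodule k W := fun i => (LinearMap.range (D ^ i)).comap ι
  have hT : ∀ i, T i = ⊥ ∨ T i = ⊤ := fun i => ker_eq_bot_of_irreducible (σ := σ) _ fun n w hw => by
    obtain ⟨u, hu⟩ := hw
    obtain ⟨B, hB⟩ := hstab n i
    refine ⟨B u, ?_⟩
    rw [← hι.1 n w, ← hu, ← Module.End.mul_apply, ← hB, Module.End.mul_apply]
  have hT0 : T 0 = ⊤ := Submodule.eq_top_iff'.2 fun w => ⟨ι w, by simp⟩
  have hTp : ∃ i, T i ≠ ⊤ := ⟨p - 1, fun h => by
    obtain ⟨w, hw⟩ := hι.2
    exact hw (hTr ▸ (h ▸ Submodule.mem_top : w ∈ T (p - 1)))⟩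
  obtain ⟨j, hj⟩ : ∃ j, Nat.find hTp = j + 1 := Nat.exists_eq_succ_of_ne_zero
    fun h => Nat.find_spec hTp (h ▸ hT0)
  have hTj : T j = ⊤ := not_not.1 (Nat.find_min hTp (by omega))
  have hTj1 : T (j + 1) = ⊥ := (hT (j + 1)).resolve_right (hj ▸ Nat.find_spec hTp)
  -- a linear section and a linear retraction
  have hmemj : ∀ w, ι w ∈ LinearMap.range (D ^ j) := fun w =>
    (hTj ▸ Submodule.mem_top : w ∈ T j)
  obtain ⟨g, hg⟩ := (D ^ j).rangeRestrict.exists_rightInverse_of_surjective
    (D ^ j).range_rangeRestrict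
  let s : W →ₗ[k] V := g ∘ₗ ι.codRestrict (LinearMap.range (D ^ j)) hmemj
  have hs : ∀ w, (D ^ j) (s w) = ι w := fun w =>
    congrArg Subtype.val (LinearMap.congr_fun hg (ι.codRestrict _ hmemj w))
  set R : Submodule k V := LinearMap.range (D ^ (j + 1)) with hR
  obtain ⟨r, hr⟩ := (R.mkQ ∘ₗ ι).exists_leftInverse_of_injective (by
    rw [LinearMap.ker_comp, Submodule.ker_mkQ]; exact hTj1)
  let f : V →ₗ[k] W := r ∘ₗ R.mkQ
  have hf : ∀ w, f (ι w) = w := fun w => LinearMap.congr_fun hr w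
  have hfR : ∀ u, f ((D ^ (j + 1)) u) = 0 := fun u => by
    show r (R.mkQ _) = 0
    rw [show R.mkQ ((D ^ (j + 1)) u) = 0 from
      (Submodule.Quotient.mk_eq_zero R).2 (LinearMap.mem_range_self _ u), map_zero]
  -- an endomorphism commuting with the Sylow subgroup
  let A : Module.End k V := s ∘ₗ f
  let a : ℕ → Module.End k V := fun i => D ^ i * A * D ^ (j + 1 - i)
  let φ : Module.End k V := ∑ i ∈ Finset.range (j + 1), D ^ i * A * D ^ (j - i)
  have hφD : D * φ = φ * D := by
    have e : D * φ - φ * D = ∑ i ∈ Finset.range (j + 1), (a (i + 1) - a i) := by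
      simp only [φ, Finset.mul_sum, Finset.sum_mul, ← Finset.sum_sub_distrib]
      refine Finset.sum_congr rfl fun i hi => ?_
      have hij : i ≤ j := Nat.lt_succ_iff.1 (Finset.mem_range.1 hi)
      simp only [a]
      rw [show j + 1 - (i + 1) = j - i by omega, show j + 1 - i = (j - i) + 1 by omega,
        pow_succ (D) (j - i), pow_succ' D i]
      simp only [mul_assoc]
    rw [← sub_eq_zero, e, Finset.sum_range_sub]
    have ha1 : a (j + 1) = 0 := LinearMap.ext fun u => by
      simp only [a, A, Nat.sub_self, pow_zero, mul_one, Module.End.mul_apply, LinearMap.comp_apply,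
        LinearMap.zero_apply]
      rw [pow_succ', Module.End.mul_apply, hs, hfix0 _ fun x hx => hι.fixed hσ hx _]
    have ha0 : a 0 = 0 := LinearMap.ext fun u => by
      simp [a, A, hfR]
    rw [ha1, ha0, sub_zero]
  have hφfix : ∀ u : V, (∀ x ∈ (P : Subgroup G), ρ x u = u) → φ u = ι (f u) := by
    intro u hu
    simp only [φ, LinearMap.sum_apply]
    rw [Finset.sum_eq_single j]
    · simp [A, hs]
    · intro i hi hij
      obtain ⟨m, hm⟩ : ∃ m, j - i = m + 1 := Nat.exists_eq_succ_of_ne_zero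
        (by have := Finset.mem_range.1 hi; omega)
      simp [hm, pow_succ, hfix0 u hu]
    · simp
  have hφP : ∀ x : Nor P, (x : G) ∈ (P : Subgroup G) → ∀ u,
      ρ (x : G) (φ u) = φ (ρ.comp (Nor P).subtype x u) := by
    intro x hx u
    obtain ⟨i, hi⟩ := hpowP _ hx
    have hc : Commute (ρ x₀) φ := by
      have : ρ x₀ = D + 1 := by rw [hD, sub_add_cancel]
      rw [this]
      exact (show Commute D φ from hφD).add_left (Commute.one_left _)
    show ρ (x : G) (φ u) = φ (ρ (x : G) u)
    rw [← hi, map_pow, ← Module.End.mul_apply, (hc.pow_left i).eq, Module.End.mul_apply]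
  -- averaging over a complement
  obtain ⟨H, hH, hpH⟩ := exists_complement P
  let ψ : Module.End k V := avg H ρ (ρ.comp (Nor P).subtype) φ
  have hψN : ∀ (n : Nor P) (u : V), ρ (n : G) (ψ u) = ψ (ρ (n : G) u) := fun n u =>
    avg_equivariant hH ρ (ρ.comp (Nor P).subtype) hφP n u
  have hH0 : (Nat.card H : k) ≠ 0 := fun h => hpH ((CharP.cast_eq_zero_iff k p _).1 h)
  have hψfix : ∀ u : V, (∀ x ∈ (P : Subgroup G), ρ x u = u) → ∃ w, ψ u = ι w := by
    intro u hu
    refine ⟨(Nat.card H : k)⁻¹ • ∑ h : H, σ (h : Nor P) (f (ρ (((h : Nor P)⁻¹ : Nor P) : G) u)),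
      ?_⟩
    simp only [ψ, avg, LinearMap.smul_apply, LinearMap.sum_apply, LinearMap.comp_apply, map_smul,
      map_sum]
    congr 1
    refine Finset.sum_congr rfl fun h _ => ?_
    rw [← hι.1]
    refine congrArg _ (hφfix _ fun x hx => ?_)
    have hm : (((h : Nor P) : G)) * x * ((h : Nor P) : G)⁻¹ ∈ (P : Subgroup G) :=
      (Subgroup.mem_normalizer_iff.1 (h : Nor P).2 x).1 hx
    show ρ x (ρ ((h : Nor P) : G)⁻¹ u) = ρ ((h : Nor P) : G)⁻¹ u
    conv_rhs => rw [← hu _ hm]
    rw [← Module.End.mul_apply, ← map_mul, ← Module.End.mul_apply, ← map_mul]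
    congr 2
    group
  have hψι : ∀ w, ψ (ι w) = ι w := by
    intro w
    simp only [ψ, avg, LinearMap.smul_apply, LinearMap.sum_apply, LinearMap.comp_apply]
    have : ∀ h : H, ρ ((h : Nor P) : G) (φ (ρ.comp (Nor P).subtype (h : Nor P)⁻¹ (ι w))) = ι w := by
      intro h
      show ρ ((h : Nor P) : G) (φ (ρ (((h : Nor P)⁻¹ : Nor P) : G) (ι w))) = ι w
      rw [hι.1, hφfix _ fun x hx => hι.fixed hσ hx _, hf, hι.1, ← Module.End.mul_apply,
        ← map_mul, mul_inv_cancel, map_one, Module.End.one_apply]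
    rw [Finset.sum_congr rfl fun h _ => this h, Finset.sum_const, Finset.card_univ,
      ← Nat.card_eq_fintype_card, ← Nat.cast_smul_eq_nsmul k, smul_smul, inv_mul_cancel₀ hH0,
      one_smul]
  -- the trace to the whole group
  let F : G → Module.End k V := fun g => ρ g * ψ * ρ g⁻¹
  have hF : ∀ a b : G, (a : G ⧸ Nor P) = b → F a = F b := by
    intro a b hab
    obtain ⟨n, rfl⟩ : ∃ n : Nor P, a * n = b :=
      ⟨⟨a⁻¹ * b, QuotientGroup.eq.1 hab⟩, mul_inv_cancel_left a b⟩
    refine LinearMap.ext fun u => ?_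
    simp only [F, mul_inv_rev, map_mul, Module.End.mul_apply]
    rw [hψN]
    congr 2
    rw [← Module.End.mul_apply (ρ (n : G)), ← map_mul, mul_inv_cancel, map_one,
      Module.End.one_apply]
  haveI : Fintype (G ⧸ Nor P) := Fintype.ofFinite _
  let Φ : Module.End k V := ∑ c : G ⧸ Nor P, F c.out
  have hFy : ∀ (y : G) (c : G ⧸ Nor P), F (y • c).out = F (y * c.out) := fun y c => hF _ _ (by
    rw [QuotientGroup.out_eq']
    conv_lhs => rw [← QuotientGroup.out_eq' c]
    rfl)
  have hΦ : ∀ (y : G) (u : V), Φ (ρ y u) = ρ y (Φ u) := by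
    intro y u
    simp only [Φ, LinearMap.sum_apply, map_sum]
    refine (Fintype.sum_equiv (MulAction.toPerm y) _ _ fun c => ?_).symm
    simp only [MulAction.toPerm_apply, hFy, F, mul_inv_rev, map_mul, Module.End.mul_apply]
    rw [← Module.End.mul_apply (ρ y⁻¹), ← map_mul, inv_mul_cancel, map_one, Module.End.one_apply]
  obtain ⟨c₀, hc₀⟩ := (Representation.IsIrreducible.algebraMap_intertwiningMap_bijective_of_isAlgClosed
    (ρ := ρ)).2
    (Φ.intertwiningMap_of_isIntertwiningMap ρ ρ hΦ)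
  have hscal : ∀ u, Φ u = c₀ • u := fun u => by
    have := congrArg (fun m : Representation.IntertwiningMap ρ ρ => m u) hc₀
    exact this.symm
  -- the non-trivial cosets give a trace
  have hsplit : ∀ u : V, (∀ x ∈ (P : Subgroup G), ρ x u = u) →
      Φ u - ψ u ∈ LinearMap.range (tr P ρ) := by
    intro u hu
    let o : G ⧸ Nor P := ((1 : G) : G ⧸ Nor P)
    let Ω := {c : G ⧸ Nor P // c ≠ o}
    have ho : ∀ x : (P : Subgroup G), (x : G) • o = o := fun x => by
      show (((x : G) * 1 : G) : G ⧸ Nor P) = ((1 : G) : G ⧸ Nor P)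
      rw [mul_one]
      exact QuotientGroup.eq.2 (by
        rw [mul_one]; exact (Nor P).inv_mem (Subgroup.le_normalizer x.2))
    letI : MulAction (P : Subgroup G) Ω :=
      { smul := fun x c => ⟨(x : G) • (c : G ⧸ Nor P), fun h => c.2 (smul_left_cancel (x : G)
          (h.trans (ho x).symm))⟩
        one_smul := fun c => Subtype.ext (one_smul G _)
        mul_smul := fun x y c => Subtype.ext (mul_smul (x : G) (y : G) _) }
    have hfree : ∀ (x : (P : Subgroup G)) (c : Ω), x • c = c → x = 1 := by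
      intro x c h
      by_contra hx
      have hx' : (x : G) ≠ 1 := fun e => hx (Subtype.ext e)
      set q := (c : G ⧸ Nor P).out with hq
      have h2 : ((x * q : G) : G ⧸ Nor P) = (q : G ⧸ Nor P) := by
        rw [QuotientGroup.out_eq']
        have := congrArg Subtype.val h
        conv_rhs => rw [← this]
        conv_rhs => rw [show ((x • c : Ω) : G ⧸ Nor P) = (x : G) • (c : G ⧸ Nor P) from rfl,
          ← QuotientGroup.out_eq' (c : G ⧸ Nor P)]
        rfl
      have hmem : q⁻¹ * (x : G) * q ∈ Nor P := by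
        have := QuotientGroup.eq.1 h2.symm
        rwa [← mul_assoc] at this
      have ho' : orderOf (q⁻¹ * (x : G) * q) = p ^ 1 := by
        have := (MulAut.conj q⁻¹).orderOf_eq (x : G)
        rw [MulAut.conj_apply, inv_inv] at this
        rw [this, pow_one, ← Nat.card_zpowers, zpowers_eq hP x.2 hx', hP]
      have hin := mem_nor_of_conj hP x.2 hx' (mem_of_pElem_nor ho' hmem)
      refine c.2 ?_
      rw [← QuotientGroup.out_eq' (c : G ⧸ Nor P)]
      exact QuotientGroup.eq.2 (by rw [mul_one]; exact (Nor P).inv_mem hin)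
    have hsum := sum_free_mem P ρ hfree (fun c : Ω => F (c : G ⧸ Nor P).out u) (fun x c => by
      show F ((x : G) • (c : G ⧸ Nor P)).out u = _
      simp only [hFy, F, mul_inv_rev, map_mul, Module.End.mul_apply]
      rw [hu _ ((P : Subgroup G).inv_mem x.2)])
    have e : Φ u - ψ u = ∑ c : Ω, F (c : G ⧸ Nor P).out u := by
      simp only [Φ, LinearMap.sum_apply]
      rw [Fintype.sum_eq_add_sum_subtype_ne _ o, hF o.out 1 (QuotientGroup.out_eq' o)]
      simp [F]
      rfl
    rw [e]
    exact hsum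
  have hc1 : c₀ = 1 := by
    obtain ⟨w, hw⟩ := hι.2
    by_contra hne
    have h := hsplit (ι w) fun x hx => hι.fixed hσ hx w
    rw [hscal, hψι, ← one_smul k (ι w), smul_smul, mul_one, ← sub_smul] at h
    exact hw ((Submodule.smul_mem_iff _ (sub_ne_zero.2 hne)).1 h)
  obtain ⟨w, hw⟩ := hψfix v hv
  refine ⟨w, ?_⟩
  have h := hsplit v hv
  rwa [hscal, hc1, one_smul, hw] at h

/-- Two simple modules of the normaliser in one simple module are equivalent. -/
theorem equiv_of_two [IsAlgClosed k] [FiniteDimensional k V] {W' : Type*} [AddCommGroup W']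
    [Module k W'] (hP : Nat.card (P : Subgroup G) = p)
    {ρ : Representation k G V} [ρ.IsIrreducible] {σ : Representation k (Nor P) W}
    [σ.IsIrreducible] (hσ : TrivOn P σ) {ι : W →ₗ[k] V} (hι : IsEmb P ρ σ ι)
    {σ' : Representation k (Nor P) W'} [σ'.IsIrreducible] (hσ' : TrivOn P σ')
    {ι' : W' →ₗ[k] V} (hι' : IsEmb P ρ σ' ι') :
    ∃ e : W' ≃ₗ[k] W, ∀ n w, e (σ' n w) = σ n (e w) := by
  classical
  set R : Submodule k V := LinearMap.range (tr P ρ) with hR
  have hRst : ∀ n : Nor P, ∀ u ∈ R, ρ (n : G) u ∈ R := by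
    rintro n _ ⟨u, rfl⟩
    exact ⟨ρ (n : G) u, (rho_tr P ρ n.2 u).symm⟩
  have huniq : ∀ w, ι w ∈ R → w = 0 := by
    intro w hw
    rcases ker_eq_bot_of_irreducible (σ := σ) (R.comap ι) (fun n w hw => by
      show ι (σ n w) ∈ R
      rw [← hι.1]; exact hRst n _ hw) with h | h
    · exact (Submodule.mem_bot k).1 (h ▸ hw)
    · obtain ⟨w₀, hw₀⟩ := hι.2
      exact absurd (h ▸ Submodule.mem_top : w₀ ∈ R.comap ι) hw₀
  have hex : ∀ w', ∃ w, ι' w' - ι w ∈ R := fun w' =>
    fixed_mod hP hσ hι (ι' w') fun x hx => hι'.fixed hσ' hx w'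
  choose e he using hex
  have hu : ∀ w' w, ι' w' - ι w ∈ R → e w' = w := fun w' w h =>
    sub_eq_zero.1 (huniq _ (by
      have := R.sub_mem h (he w')
      rwa [sub_sub_sub_cancel_left, ← map_sub] at this))
  let L : W' →ₗ[k] W :=
    { toFun := e
      map_add' := fun a b => hu _ _ (by
        have := R.add_mem (he a) (he b)
        rwa [sub_add_sub_comm, ← map_add, ← map_add] at this)
      map_smul' := fun c a => hu _ _ (by
        have := R.smul_mem c (he a)
        rwa [smul_sub, ← map_smul, ← map_smul] at this) }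
  have hLeq : ∀ n w, L (σ' n w) = σ n (L w) := fun n w => hu _ _ (by
    rw [← hι'.1, ← hι.1, ← map_sub]
    exact hRst n _ (he w))
  have hinj : LinearMap.ker L = ⊥ := by
    refine (ker_eq_bot_of_irreducible (σ := σ') _ fun n w hw => ?_).resolve_right fun h => ?_
    · rw [LinearMap.mem_ker] at hw ⊢
      rw [hLeq, hw, map_zero]
    · obtain ⟨w₀, hw₀⟩ := hι'.2
      have : e w₀ = 0 := LinearMap.congr_fun (LinearMap.ker_eq_top.1 h) w₀
      have h2 := he w₀
      rw [this, map_zero, sub_zero] at h2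
      exact hw₀ h2
  have hsurj : LinearMap.range L = ⊤ := by
    refine (ker_eq_bot_of_irreducible (σ := σ) _ fun n w hw => ?_).resolve_left fun h => ?_
    · obtain ⟨u, rfl⟩ := hw
      exact ⟨σ' n u, hLeq n u⟩
    · obtain ⟨w₀, hw₀⟩ := hι'.2
      have : e w₀ = 0 := LinearMap.congr_fun (LinearMap.range_eq_bot.1 h) w₀
      have h2 := he w₀
      rw [this, map_zero, sub_zero] at h2
      exact hw₀ h2
  exact ⟨LinearEquiv.ofBijective L ⟨LinearMap.ker_eq_bot.1 hinj, LinearMap.range_eq_top.1 hsurj⟩,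
    hLeq⟩

end Cfsg.Agent.Lib.DefectOne
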